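import Mathlib
import Cfsg.Agent.Fusion.Alperin.Criteria

/-!
Two transvections of an abelian group which generate `SL(2, p)` on a plane: the element acting as `-1` on the plane
and trivially on the common fixed points.
-/

set_option autoImplicit false

namespace CfsgLib.CenterIndexSq

open CfsgLib.Fusion.Alperin

variable {E : Type*} [Group E]

/-- `u` moves `y` by `c`, `v` moves `c` by `y⁻¹`, and both move everything inside the cyclic group of their centre. -/
structure Pair (u v : MulAut E) (c y : E) : Prop where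
  comm : ∀ a b : E, a * b = b * a
  u_shift : ∀ k, ∃ m : ℤ, u k = k * c ^ m
  v_shift : ∀ k, ∃ m : ℤ, v k = k * y ^ m
  uc : u c = c
  uy : u y = y * c
  vy : v y = y
  vc : v c = c * y⁻¹

namespace Pair

variable {u v : MulAut E} {c y : E} (h : Pair u v c y)

include h in
/-- Every element is a fixed point of both, times an element of the plane. -/
theorem exists_decomp (k : E) : ∃ k₀ : E, (u k₀ = k₀ ∧ v k₀ = k₀) ∧ ∃ i j : ℤ, k = k₀ * c ^ i * y ^ j := by
  obtain ⟨g, hg⟩ := h.u_shift k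
  obtain ⟨f, hf⟩ := h.v_shift k
  have hcy : Commute c y := h.comm c y
  refine ⟨k * c ^ f * y ^ (-g), ⟨?_, ?_⟩, -f, g, ?_⟩
  · rw [map_mul, map_mul, map_zpow, map_zpow, h.uc, h.uy, hg, hcy.symm.mul_zpow]
    calc k * c ^ g * c ^ f * (y ^ (-g) * c ^ (-g))
        = k * c ^ g * c ^ f * (c ^ (-g) * y ^ (-g)) := by rw [h.comm (y ^ (-g))]
      _ = _ := by group
  · rw [map_mul, map_mul, map_zpow, map_zpow, h.vy, h.vc, hf, hcy.inv_right.mul_zpow]
    calc k * y ^ f * (c ^ f * y⁻¹ ^ f) * y ^ (-g)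
        = k * (y ^ f * c ^ f) * y⁻¹ ^ f * y ^ (-g) := by group
      _ = k * (c ^ f * y ^ f) * y⁻¹ ^ f * y ^ (-g) := by rw [h.comm (y ^ f)]
      _ = _ := by group
  · rw [h.comm (k * c ^ f) (y ^ (-g))]
    calc k = k * c ^ f * (c ^ (-f) * (y ^ (-g) * y ^ g)) := by group
      _ = k * c ^ f * ((y ^ (-g) * c ^ (-f)) * y ^ g) := by
          rw [← mul_assoc (c ^ (-f)), h.comm (c ^ (-f)) (y ^ (-g))]
      _ = y ^ (-g) * (k * c ^ f) * c ^ (-f) * y ^ g := by
          rw [h.comm (y ^ (-g)) (k * c ^ f)]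
          group

/-- The element `(u v u)²`. -/
noncomputable def neg (_ : Pair u v c y) : MulAut E := (u * v * u) * (u * v * u)

include h in
theorem w_c : u (v (u c)) = y⁻¹ := by
  rw [h.uc, h.vc, map_mul, map_inv, h.uc, h.uy, mul_inv_rev, mul_inv_cancel_left]

include h in
theorem w_y : u (v (u y)) = c := by
  rw [h.uy, map_mul, h.vy, h.vc, ← mul_assoc, h.comm y c, mul_inv_cancel_right, h.uc]

theorem neg_c : h.neg c = c⁻¹ := by
  show u (v (u (u (v (u c))))) = _
  rw [h.w_c, map_inv, map_inv, map_inv, h.w_y]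

theorem neg_y : h.neg y = y⁻¹ := by
  show u (v (u (u (v (u y))))) = _
  rw [h.w_y, h.w_c]

theorem neg_fix {k : E} (hu : u k = k) (hv : v k = k) : h.neg k = k := by
  show u (v (u (u (v (u k))))) = k
  simp only [hu, hv]

theorem neg_comm : h.neg * u = u * h.neg := by
  refine MulEquiv.ext fun k => ?_
  obtain ⟨k₀, ⟨hu, hv⟩, i, j, rfl⟩ := h.exists_decomp k
  have e1 : (h.neg * u) k₀ = (u * h.neg) k₀ := by
    simp only [MulAut.mul_apply, hu, h.neg_fix hu hv]
  have e2 : (h.neg * u) y = (u * h.neg) y := by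
    simp only [MulAut.mul_apply, h.uy, h.neg_y, map_mul, map_inv, h.neg_c, mul_inv_rev]
    exact h.comm _ _
  have e3 : (h.neg * u) c = (u * h.neg) c := by
    simp only [MulAut.mul_apply, h.uc, h.neg_c, map_inv]
  rw [map_mul, map_mul, map_mul, map_mul, map_zpow, map_zpow, map_zpow, map_zpow, e1, e2, e3]

theorem neg_mem {A : Subgroup (MulAut E)} (hu : u ∈ A) (hv : v ∈ A) : h.neg ∈ A :=
  mul_mem (mul_mem (mul_mem hu hv) hu) (mul_mem (mul_mem hu hv) hu)

end Pair

end CfsgLib.CenterIndexSq
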