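import Cfsg.Agent.Fusion.Alperin.Factor
import Cfsg.Agent.GenExtraspecial.Closed
import Cfsg.Agent.CenterIndexSq.TransPair

/-!
Saturated systems over a `p`-group whose centre has index at most `p ^ 2`: the structure of a proper Alperin
subgroup `E` (abelian, of index `p`), and transvection pairs in `Aut_F(E)`.
-/

set_option autoImplicit false

namespace CfsgLib.CenterIndexSq

open CfsgLib.Fus CfsgLib.Fusion.Alperin Cfsg.FusionSystem
open scoped commutatorElement

variable {Ω : Type*} [Group Ω] {S : Subgroup Ω}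

/-- The centre of `S`, inside the ambient group. -/
def centre (S : Subgroup Ω) : Subgroup Ω := (Subgroup.center S).map S.subtype

theorem mem_centre {z : Ω} : z ∈ centre S ↔ z ∈ S ∧ ∀ h ∈ S, h * z = z * h := by
  constructor
  · rintro ⟨w, hw, rfl⟩
    exact ⟨w.2, fun h hh => congrArg Subtype.val (Subgroup.mem_center_iff.1 hw ⟨h, hh⟩)⟩
  · rintro ⟨hz, hc⟩
    exact ⟨⟨z, hz⟩, Subgroup.mem_center_iff.2 fun h => Subtype.ext (hc h h.2), rfl⟩

variable [Finite S] {p : ℕ} [hp : Fact p.Prime] {F : Cfsg.FusionSystem S}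

/-- The facts on a proper Alperin subgroup used below. -/
structure Maximal (S : Subgroup Ω) (F : Cfsg.FusionSystem S) (p : ℕ) (E : Subgroup Ω) : Prop where
  alperin : IsAlperinSubgroup F p E
  centre_le : centre S ≤ E
  norm : ∀ g ∈ S, g ∈ Subgroup.normalizer (E : Set Ω)
  ne : E ≠ S
  comm : ∀ a ∈ E, ∀ b ∈ E, a * b = b * a
  gen : ∀ g ∈ S, g ∉ E → ∀ h ∈ S, ∃ i : ℤ, ∃ k ∈ E, h = g ^ i * k
  gen' : ∀ r ∈ E, r ∉ centre S → ∀ k ∈ E, ∃ i : ℤ, ∃ z ∈ centre S, k = r ^ i * z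
  not_centre : ∃ r ∈ E, r ∉ centre S
  pow_mem : ∀ r ∈ E, r ^ p ∈ centre S
  comm_centre : ∀ g ∈ S, ∀ h ∈ S, ⁅g, h⁆ ∈ centre S

theorem Maximal.le {E : Subgroup Ω} (h : Maximal S F p E) : E ≤ S := h.alperin.centric.1

theorem Maximal.exists_not_mem {E : Subgroup Ω} (h : Maximal S F p E) : ∃ g ∈ S, g ∉ E := by
  by_contra hne
  push Not at hne
  exact h.ne (le_antisymm h.le hne)

theorem Maximal.mem_centre_of_comm {E : Subgroup Ω} (h : Maximal S F p E) {g r : Ω} (hg : g ∈ S)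
    (hgE : g ∉ E) (hr : r ∈ E) (hc : g * r = r * g) : r ∈ centre S := by
  refine mem_centre.2 ⟨h.le hr, fun x hx => ?_⟩
  obtain ⟨i, k, hk, rfl⟩ := h.gen g hg hgE x hx
  exact (((show Commute g r from hc).zpow_left i).mul_left (h.comm k hk r hr)).eq

/-- A proper Alperin subgroup is abelian of index `p`. -/
theorem maximal_of_alperin (hS : IsPGroup p S) (hZ : (Subgroup.center S).index ≤ p ^ 2)
    {E : Subgroup Ω} (hE : IsAlperinSubgroup F p E) (hne : E ≠ S) : Maximal S F p E := by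
  have hES := hE.centric.1
  have hcE : centre S ≤ E := fun z hz => centralizerIn_le_of_centric hE.centric
    ⟨(mem_centre.1 hz).1, fun x hx => (mem_centre.1 hz).2 x (hES hx)⟩
  let Q := E.subgroupOf S
  have hcQ : Subgroup.center S ≤ Q := fun z hz => hcE ⟨z, hz, rfl⟩
  have hQtop : Q ≠ ⊤ := fun e => hne (le_antisymm hES (Subgroup.subgroupOf_eq_top.1 e))
  have hQc : Q ≠ Subgroup.center S := by
    intro e
    apply hne
    refine le_antisymm hES fun x hx => centralizerIn_le_of_centric hE.centric ⟨hx, fun w hw => ?_⟩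
    have : (⟨w, hES hw⟩ : S) ∈ Subgroup.center S := e ▸ (show (⟨w, hES hw⟩ : S) ∈ Q from hw)
    exact (congrArg Subtype.val (Subgroup.mem_center_iff.1 this ⟨x, hx⟩)).symm
  obtain ⟨a, ha⟩ := hS.index Q
  obtain ⟨b, hb⟩ := (hS.to_subgroup Q).index ((Subgroup.center S).subgroupOf Q)
  have hmul : ((Subgroup.center S).subgroupOf Q).index * Q.index = (Subgroup.center S).index :=
    Subgroup.relIndex_mul_index hcQ
  rw [ha, hb, ← pow_add] at hmul
  have hab : b + a ≤ 2 := by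
    by_contra hlt
    have := Nat.pow_le_pow_right hp.out.pos (show 3 ≤ b + a by omega)
    have h3 := Nat.pow_lt_pow_right hp.out.one_lt (show 2 < 3 by omega)
    omega
  have ha1 : a ≠ 0 := fun e => hQtop (Subgroup.index_eq_one.1 (by rw [ha, e, pow_zero]))
  have hb1 : b ≠ 0 := fun e => hQc (le_antisymm (Subgroup.subgroupOf_eq_top.1
    (Subgroup.index_eq_one.1 (by rw [hb, e, pow_zero]))) hcQ)
  obtain rfl : a = 1 := by omega
  obtain rfl : b = 1 := by omega
  rw [pow_one] at ha hb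
  have hquot : ∀ g h : S, ⁅g, h⁆ ∈ Subgroup.center S := by
    have hcard : Nat.card (S ⧸ Subgroup.center S) = p ^ 2 := by
      rw [← Subgroup.index_eq_card, ← hmul]
    intro g h
    rw [← QuotientGroup.eq_one_iff, ← QuotientGroup.mk'_apply, map_commutatorElement,
      commutatorElement_eq_one_iff_mul_comm]
    exact (IsPGroup.isMulCommutative_of_card_eq_prime_sq hcard).is_comm.comm _ _
  have hQn : Q.Normal := by
    refine ⟨fun q hq g => ?_⟩
    have e : g * q * g⁻¹ = ⁅g, q⁆ * q := by rw [commutatorElement_def]; group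
    rw [e]
    exact mul_mem (hcQ (hquot g q)) hq
  have hsup : ∀ (K : Subgroup S), Q ≤ K → ∀ g ∈ K, g ∉ Q → K = ⊤ := by
    intro K hK g hgK hgQ
    rcases (Nat.dvd_prime hp.out).1 (ha ▸ Subgroup.index_dvd_of_le hK) with h1 | h1
    · exact Subgroup.index_eq_one.1 h1
    · exfalso
      have h2 := Subgroup.relIndex_mul_index hK
      rw [h1, ha] at h2
      have h3 : Q.relIndex K = 1 := by
        have := hp.out.pos
        exact Nat.eq_of_mul_eq_mul_right this (by rw [h2, one_mul])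
      exact hgQ (Subgroup.relIndex_eq_one.1 h3 hgK)
  have hnorm : ∀ g ∈ S, g ∈ Subgroup.normalizer (E : Set Ω) := fun g hg =>
    (Subgroup.normal_subgroupOf_iff_le_normalizer hES).1 hQn hg
  have hgen' : ∀ r ∈ E, r ∉ centre S → ∀ k ∈ E, ∃ i : ℤ, ∃ z ∈ centre S, k = r ^ i * z := by
    intro r hr hrc k hk
    let r' : S := ⟨r, hES hr⟩
    let K : Subgroup S := Subgroup.center S ⊔ Subgroup.zpowers r'
    have hKQ : K ≤ Q := sup_le hcQ (Subgroup.zpowers_le.2 hr)
    have hKe : K = Q := by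
      refine le_antisymm hKQ fun q hq => ?_
      have h1 := Subgroup.relIndex_mul_relIndex (Subgroup.center S) K Q le_sup_left hKQ
      rw [show (Subgroup.center S).relIndex Q = p from hb] at h1
      rcases (Nat.dvd_prime hp.out).1 (Dvd.intro_left _ h1) with h2 | h2
      · exact Subgroup.relIndex_eq_one.1 h2 hq
      · exfalso
        rw [h2] at h1
        have h3 : (Subgroup.center S).relIndex K = 1 :=
          Nat.eq_of_mul_eq_mul_right hp.out.pos (by rw [h1, one_mul])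
        obtain ⟨w, hw, e⟩ : r ∈ centre S := ⟨r', Subgroup.relIndex_eq_one.1 h3
          (Subgroup.mem_sup_right (Subgroup.mem_zpowers r')), rfl⟩
        exact hrc ⟨w, hw, e⟩
    have hk' : (⟨k, hES hk⟩ : S) ∈ K := hKe.symm ▸ (show (⟨k, hES hk⟩ : S) ∈ Q from hk)
    obtain ⟨z, hz, _, ⟨i, rfl⟩, e⟩ := Subgroup.mem_sup_of_normal_left.1 hk'
    refine ⟨i, z, ⟨z, hz, rfl⟩, ?_⟩
    have e' := congrArg Subtype.val ((Subgroup.mem_center_iff.1 hz (r' ^ i)).trans e)
    exact e'.symm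
  obtain ⟨r₀, hr₀, hr₀c⟩ : ∃ r ∈ E, r ∉ centre S := by
    by_contra hh
    push Not at hh
    exact hQc (le_antisymm (fun q hq => by
      obtain ⟨w, hw, e⟩ := hh q hq
      exact (Subtype.ext e : w = q) ▸ hw) hcQ)
  refine ⟨hE, hcE, hnorm, hne, fun x hx y hy => ?_, fun g hg hgE h hh => ?_, hgen',
    ⟨r₀, hr₀, hr₀c⟩, fun r hr => ?_, fun g hg h hh => ?_⟩
  · obtain ⟨i, z, hz, rfl⟩ := hgen' r₀ hr₀ hr₀c x hx
    obtain ⟨j, w, hw, rfl⟩ := hgen' r₀ hr₀ hr₀c y hy
    have h1 : Commute (r₀ ^ i) (r₀ ^ j) := (Commute.refl r₀).zpow_zpow i j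
    have h2 : Commute (r₀ ^ i) w := (mem_centre.1 hw).2 _ (S.zpow_mem (hES hr₀) i)
    have h3 : Commute z (r₀ ^ j * w) :=
      ((mem_centre.1 hz).2 _ (S.mul_mem (S.zpow_mem (hES hr₀) j) (mem_centre.1 hw).1)).symm
    exact ((h1.mul_right h2).mul_left h3).eq
  · let g' : S := ⟨g, hg⟩
    have hK : Q ⊔ Subgroup.zpowers g' = ⊤ :=
      hsup _ le_sup_left g' (Subgroup.mem_sup_right (Subgroup.mem_zpowers g')) hgE
    obtain ⟨k, hk, _, ⟨i, rfl⟩, e⟩ := Subgroup.mem_sup_of_normal_left.1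
      (hK.symm ▸ Subgroup.mem_top (⟨h, hh⟩ : S) : (⟨h, hh⟩ : S) ∈ Q ⊔ Subgroup.zpowers g')
    have hk2 : (g' ^ i)⁻¹ * k * g' ^ i ∈ Q := by
      simpa using hQn.conj_mem k hk (g' ^ i)⁻¹
    refine ⟨i, ((g' ^ i)⁻¹ * k * g' ^ i : S), hk2, ?_⟩
    have e' := congrArg Subtype.val e
    simp only [Subgroup.coe_mul, Subgroup.coe_zpow] at e'
    simp only [Subgroup.coe_mul, Subgroup.coe_zpow, Subgroup.coe_inv]
    rw [← e']
    show (k : Ω) * g ^ i = g ^ i * ((g ^ i)⁻¹ * (k : Ω) * g ^ i)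
    group
  · have := ((Subgroup.center S).subgroupOf Q).pow_index_mem (⟨⟨r, hES hr⟩, hr⟩ : Q)
    rw [hb] at this
    exact ⟨_, this, rfl⟩
  · exact ⟨_, hquot ⟨g, hg⟩ ⟨h, hh⟩, rfl⟩

/-- One element generates all commutators. -/
theorem exists_commutator_gen {E : Subgroup Ω} (h : Maximal S F p E) :
    ∃ c, c ∈ centre S ∧ c ≠ 1 ∧ c ^ p = 1 ∧ ∀ g ∈ S, ∀ x ∈ S, ⁅g, x⁆ ∈ Subgroup.zpowers c := by
  obtain ⟨r, hr, hrc⟩ := h.not_centre
  obtain ⟨g, hg, hgE⟩ := h.exists_not_mem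
  have hc := h.comm_centre g hg r (h.le hr)
  have hconj : ∀ i : ℤ, g * r ^ i * g⁻¹ = ⁅g, r⁆ ^ i * r ^ i := by
    intro i
    rw [← conj_zpow, show g * r * g⁻¹ = ⁅g, r⁆ * r by rw [commutatorElement_def]; group]
    exact Commute.mul_zpow ((mem_centre.1 hc).2 r (h.le hr)).symm i
  have hgk : ∀ k ∈ E, ⁅g, k⁆ ∈ Subgroup.zpowers ⁅g, r⁆ := by
    intro k hk
    obtain ⟨i, z, hz, rfl⟩ := h.gen' r hr hrc k hk
    refine ⟨i, ?_⟩
    show ⁅g, r⁆ ^ i = ⁅g, r ^ i * z⁆
    rw [commutatorElement_def g (r ^ i * z)]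
    have hzg : z * g⁻¹ = g⁻¹ * z := ((mem_centre.1 hz).2 g⁻¹ (S.inv_mem hg)).symm
    calc ⁅g, r⁆ ^ i = (g * r ^ i * g⁻¹) * (r ^ i)⁻¹ := by rw [hconj]; group
      _ = g * r ^ i * (g⁻¹ * z) * z⁻¹ * (r ^ i)⁻¹ := by group
      _ = _ := by rw [← hzg]; group
  refine ⟨⁅g, r⁆, hc, fun e => hrc (h.mem_centre_of_comm hg hgE hr
    (commutatorElement_eq_one_iff_mul_comm.1 e)), ?_, fun x hx y hy => ?_⟩
  · have h1 := hconj (p : ℤ)
    rw [zpow_natCast, zpow_natCast, (mem_centre.1 (h.pow_mem r hr)).2 g hg, mul_inv_cancel_right] at h1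
    exact mul_right_cancel (b := r ^ p) (by rw [one_mul]; exact h1.symm)
  · -- the images of `g` and `E` in the quotient by the commutator commute
    let c : S := ⟨⁅g, r⁆, (mem_centre.1 hc).1⟩
    let N : Subgroup S := Subgroup.zpowers c
    have hNc : N ≤ Subgroup.center S := Subgroup.zpowers_le.2 (Subgroup.mem_center_iff.2 fun s =>
      Subtype.ext ((mem_centre.1 hc).2 s s.2))
    have : N.Normal := ⟨fun n hn s => by
      rw [Subgroup.mem_center_iff.1 (hNc hn) s, mul_inv_cancel_right]; exact hn⟩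
    let q := QuotientGroup.mk' N
    have hgq : ∀ k (hk : k ∈ E), Commute (q ⟨g, hg⟩) (q ⟨k, h.le hk⟩) := fun k hk => by
      rw [Commute, SemiconjBy, ← commutatorElement_eq_one_iff_mul_comm, ← map_commutatorElement]
      obtain ⟨i, hi⟩ := hgk k hk
      exact (QuotientGroup.eq_one_iff _).2 ⟨i, Subtype.ext hi⟩
    obtain ⟨i, k, hk, rfl⟩ := h.gen g hg hgE x hx
    obtain ⟨j, l, hl, rfl⟩ := h.gen g hg hgE y hy
    have hcc : Commute (q ((⟨g, hg⟩ : S) ^ i * ⟨k, h.le hk⟩)) (q ((⟨g, hg⟩ : S) ^ j * ⟨l, h.le hl⟩)) := by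
      rw [map_mul, map_mul, map_zpow, map_zpow]
      refine Commute.mul_left (((Commute.refl _).zpow_zpow i j).mul_right ((hgq l hl).zpow_left i)) ?_
      refine ((hgq k hk).symm.zpow_right j).mul_right ?_
      exact (show Commute (⟨k, h.le hk⟩ : S) ⟨l, h.le hl⟩ from Subtype.ext (h.comm k hk l hl)).map q
    rw [Commute, SemiconjBy, ← commutatorElement_eq_one_iff_mul_comm, ← map_commutatorElement] at hcc
    obtain ⟨m, hm⟩ := (QuotientGroup.eq_one_iff _).1 hcc
    exact ⟨m, congrArg Subtype.val hm⟩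

/-- The elements of `E` fixed by every conjugate of an element of `Aut_S(E)`. -/
def fixSub (F : Cfsg.FusionSystem S) (E : Subgroup Ω) : Subgroup Ω :=
  ((⨅ b ∈ F.autGroup E, ⨅ a ∈ Cfsg.autInducedBy S E,
    (MonoidHom.eqLocus (b * a * b⁻¹ : MulAut E).toMonoidHom (MonoidHom.id E))).map E.subtype)

omit [Finite S] hp in
theorem mem_fixSub {E : Subgroup Ω} {k : E} : (k : Ω) ∈ fixSub F E ↔
    ∀ b ∈ F.autGroup E, ∀ a ∈ Cfsg.autInducedBy S E, (b * a * b⁻¹ : MulAut E) k = k := by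
  constructor
  · rintro ⟨k', hk', e⟩
    obtain rfl : k' = k := Subtype.ext e
    simp only [SetLike.mem_coe, Subgroup.mem_iInf] at hk'
    exact hk'
  · intro h
    refine ⟨k, ?_, rfl⟩
    simp only [SetLike.mem_coe, Subgroup.mem_iInf]
    exact h

omit [Finite S] hp in
theorem fixSub_le {E : Subgroup Ω} : fixSub F E ≤ E := Subgroup.map_subtype_le _

omit [Finite S] hp in
theorem apply_mem_fixSub {E : Subgroup Ω} {α : MulAut E} (hα : α ∈ F.autGroup E) {k : E}
    (hk : (k : Ω) ∈ fixSub F E) : ((α k : E) : Ω) ∈ fixSub F E := by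
  rw [mem_fixSub] at hk ⊢
  intro b hb a ha
  have h := congrArg α (hk (α⁻¹ * b) (mul_mem (inv_mem hα) hb) a ha)
  simp only [mul_inv_rev, inv_inv, MulAut.mul_apply, MulAut.inv_def, MulEquiv.apply_symm_apply] at h ⊢
  exact h

theorem fixSub_le_centre {E : Subgroup Ω} (h : Maximal S F p E) : fixSub F E ≤ centre S := by
  intro k hk
  obtain ⟨g, hg, hgE⟩ := h.exists_not_mem
  have hkE := fixSub_le hk
  have h1 := (mem_fixSub (k := (⟨k, hkE⟩ : E))).1 hk 1 (one_mem _) _
    (conjAut_mem_autInducedBy (h.norm g hg) hg)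
  rw [one_mul, inv_one, mul_one] at h1
  exact h.mem_centre_of_comm hg hgE hkE (mul_inv_eq_iff_eq_mul.1 (congrArg Subtype.val h1))

omit hp in
/-- `Aut_S(E)` is generated by any outside element. -/
theorem autS_eq_zpowers {E : Subgroup Ω} (h : Maximal S F p E) {g : Ω} (hg : g ∈ S) (hgE : g ∉ E) :
    Cfsg.autInducedBy S E = Subgroup.zpowers (conjAut (h.norm g hg)) := by
  refine le_antisymm (fun a ha => ?_) (Subgroup.zpowers_le.2 (conjAut_mem_autInducedBy _ hg))
  obtain ⟨x, hx, hxa⟩ := mem_autInducedBy_iff.1 ha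
  obtain ⟨i, k, hk, rfl⟩ := h.gen g hg hgE x hx
  refine ⟨i, MulEquiv.ext fun e => Subtype.ext ?_⟩
  have hzp : (((conjAut (h.norm g hg)) ^ i) e : E) = conjAut (zpow_mem (h.norm g hg) i) e := by
    have : (conjAut (h.norm g hg)) ^ i = conjAut (zpow_mem (h.norm g hg) i) := by
      show (E.normalizerMonoidHom _) ^ i = E.normalizerMonoidHom _
      rw [← map_zpow]
      rfl
    rw [this]
  show (((conjAut (h.norm g hg)) ^ i) e : Ω) = ((a e : E) : Ω)
  rw [hzp, conjAut_apply, hxa]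
  calc g ^ i * (e : Ω) * (g ^ i)⁻¹ = g ^ i * ((k * (e : Ω)) * k⁻¹) * (g ^ i)⁻¹ := by
        rw [h.comm k hk e e.2]; group
    _ = _ := by group

omit [Finite S] in
/-- The stabilizer of the series `1 ≤ ⟨c⟩ ≤ ⟨c, y⟩ ≤ E` consists of `p`-elements. -/
theorem isPGroup_closure_stab {E : Subgroup Ω} [Finite E] (hE : IsPGroup p E)
    (hcomm : ∀ a b : E, a * b = b * a) {u v : MulAut E} {c y : E}
    (hu : u c = c ∧ (∃ n : ℤ, u y = y * c ^ n) ∧ ∀ k, ∃ i j : ℤ, u k = k * c ^ i * y ^ j)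
    (hv : v c = c ∧ (∃ n : ℤ, v y = y * c ^ n) ∧ ∀ k, ∃ i j : ℤ, v k = k * c ^ i * y ^ j) :
    IsPGroup p (Subgroup.closure ({u, v} : Set (MulAut E))) := by
  let St : Subgroup (MulAut E) :=
    { carrier := {α | α c = c ∧ (∃ n : ℤ, α y = y * c ^ n) ∧ ∀ k, ∃ i j : ℤ, α k = k * c ^ i * y ^ j}
      one_mem' := ⟨rfl, ⟨0, by simp⟩, fun k => ⟨0, 0, by simp⟩⟩
      mul_mem' := by
        rintro α β ⟨hαc, ⟨n, hαy⟩, hα⟩ ⟨hβc, ⟨m, hβy⟩, hβ⟩
        refine ⟨by rw [MulAut.mul_apply, hβc, hαc], ⟨n + m, ?_⟩, fun k => ?_⟩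
        · rw [MulAut.mul_apply, hβy, map_mul, map_zpow, hαy, hαc, mul_assoc, ← zpow_add]
        · obtain ⟨i, j, hk⟩ := hβ k
          obtain ⟨i', j', hk'⟩ := hα k
          refine ⟨i' + i + n * j, j' + j, ?_⟩
          rw [MulAut.mul_apply, hk, map_mul, map_mul, map_zpow, map_zpow, hαc, hαy, hk',
            ((show Commute y c from hcomm y c).zpow_right n).mul_zpow, ← zpow_mul]
          calc k * c ^ i' * y ^ j' * c ^ i * (y ^ j * c ^ (n * j))
              = k * c ^ i' * (y ^ j' * c ^ i) * (y ^ j * c ^ (n * j)) := by group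
            _ = k * c ^ i' * (c ^ i * y ^ j') * (c ^ (n * j) * y ^ j) := by
                rw [hcomm (y ^ j') (c ^ i), hcomm (y ^ j) (c ^ (n * j))]
            _ = k * c ^ (i' + i) * (y ^ j' * c ^ (n * j)) * y ^ j := by group
            _ = k * c ^ (i' + i) * (c ^ (n * j) * y ^ j') * y ^ j := by rw [hcomm (y ^ j') (c ^ (n * j))]
            _ = _ := by group
      inv_mem' := by
        rintro α ⟨hαc, ⟨n, hαy⟩, hα⟩
        have hsymm : ∀ {b d : E}, α b = d → α⁻¹ d = b := fun h => by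
          rw [← h, MulAut.inv_def, MulEquiv.symm_apply_apply]
        refine ⟨hsymm hαc, ⟨-n, hsymm ?_⟩, fun k => ?_⟩
        · rw [map_mul, map_zpow, hαy, hαc]
          group
        · obtain ⟨i, j, hk⟩ := hα (α⁻¹ k)
          rw [MulAut.inv_def, MulEquiv.apply_symm_apply] at hk
          refine ⟨-i, -j, ?_⟩
          have e : α⁻¹ k = k * (c ^ i * y ^ j)⁻¹ := by
            rw [eq_mul_inv_iff_mul_eq, ← mul_assoc]
            exact hk.symm
          rw [e, mul_inv_rev, hcomm (y ^ j)⁻¹, ← mul_assoc, ← zpow_neg, ← zpow_neg] }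
  have hX : Subgroup.closure ({u, v} : Set (MulAut E)) ≤ St := by
    rw [Subgroup.closure_le]
    rintro α (rfl | rfl)
    · exact hu
    · exact hv
  rintro ⟨α, hα⟩
  obtain ⟨hαc, ⟨n, hαy⟩, hαk⟩ := hX hα
  let c' : Ω := c
  let y' : Ω := y
  obtain ⟨k, hk⟩ := exists_pow_eq_one_of_stabilizes hE 3
    (fun i => if i = 0 then ⊥ else if i = 1 then Subgroup.zpowers c'
      else if i = 2 then Subgroup.zpowers c' ⊔ Subgroup.zpowers y' else E)
    (by simp) (by simp) (by
      intro i j hij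
      have h1 : Subgroup.zpowers c' ≤ E := Subgroup.zpowers_le.2 c.2
      have h2 : Subgroup.zpowers y' ≤ E := Subgroup.zpowers_le.2 y.2
      rcases i with _ | _ | _ | i <;> rcases j with _ | _ | _ | j <;>
        first
          | omega
          | simp [h1, h2]) (α := α) (fun i hi k hk => by
      obtain rfl | rfl | rfl : i = 0 ∨ i = 1 ∨ i = 2 := by omega
      · obtain ⟨m, hm⟩ : (k : Ω) ∈ Subgroup.zpowers c' := by simpa using hk
        have e : k = c ^ m := Subtype.ext (by simpa [c'] using hm.symm)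
        simp [e, map_zpow, hαc]
      · have hk' : (k : Ω) ∈ Subgroup.zpowers c' ⊔ Subgroup.zpowers y' := by simpa using hk
        have hk2 : k ∈ Subgroup.zpowers c ⊔ Subgroup.zpowers y := by
          have : (Subgroup.zpowers c ⊔ Subgroup.zpowers y).map E.subtype =
              Subgroup.zpowers c' ⊔ Subgroup.zpowers y' := by
            rw [Subgroup.map_sup, MonoidHom.map_zpowers, MonoidHom.map_zpowers]
            rfl
          rw [← this] at hk'
          obtain ⟨k', hk'', e⟩ := hk'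
          exact (Subtype.ext e : k' = k) ▸ hk''
        let dlt : E →* E :=
          { toFun := fun w => w⁻¹ * α w
            map_one' := by simp
            map_mul' := fun a b => by
              rw [map_mul, mul_inv_rev]
              calc b⁻¹ * a⁻¹ * (α a * α b) = b⁻¹ * (a⁻¹ * α a) * α b := by group
                _ = (a⁻¹ * α a) * b⁻¹ * α b := by rw [hcomm b⁻¹]
                _ = _ := by group }
        have hle : Subgroup.zpowers c ⊔ Subgroup.zpowers y ≤
            Subgroup.comap dlt (Subgroup.zpowers c) := by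
          refine sup_le (Subgroup.zpowers_le.2 ?_) (Subgroup.zpowers_le.2 ?_) <;>
            simp only [Subgroup.mem_comap, dlt, MonoidHom.coe_mk, OneHom.coe_mk]
          · rw [hαc, inv_mul_cancel]; exact one_mem _
          · exact ⟨n, by rw [hαy]; group⟩
        obtain ⟨m, hm⟩ := hle hk2
        change c ^ m = k⁻¹ * α k at hm
        have h2 := congrArg Subtype.val hm
        simp only [Subgroup.coe_zpow, Subgroup.coe_mul, Subgroup.coe_inv] at h2
        simp only [one_ne_zero, if_false, if_true]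
        exact ⟨m, h2⟩
      · obtain ⟨i, j, hk'⟩ := hαk k
        simp only [OfNat.ofNat_ne_zero, if_false, OfNat.ofNat_ne_one, if_true]
        rw [hk', Subgroup.coe_mul, Subgroup.coe_mul, mul_assoc (k : Ω), inv_mul_cancel_left]
        exact mul_mem (Subgroup.mem_sup_left ⟨i, by simp [c']⟩)
          (Subgroup.mem_sup_right ⟨j, by simp [y']⟩))
  exact ⟨k, Subtype.ext hk⟩

theorem mem_zpowers_of_pow {G : Type*} [Group G] {u : G} (hu : u ^ p = 1) {e : ℤ}
    (he : ¬ (p : ℤ) ∣ e) : u ∈ Subgroup.zpowers (u ^ e) := by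
  obtain ⟨s, hs⟩ := CfsgLib.GenExtraspecial.exists_mul_mod_eq he 1
  refine ⟨s, ?_⟩
  show (u ^ e) ^ (s : ℤ) = u
  rw [← zpow_mul, show e * (s : ℤ) = ((s : ℤ) * e - 1) + 1 by ring, zpow_add,
    CfsgLib.GenExtraspecial.zpow_eq_one_of_dvd hu hs, one_mul, zpow_one]

/-- An `Aut_F(E)`-conjugate of `Aut_S(E)` different from it gives a transvection pair. -/
theorem exists_pair (hS : IsPGroup p S) (hF : F.IsSaturated p) {E : Subgroup Ω} (h : Maximal S F p E)
    {c : E} (hcc : (c : Ω) ∈ centre S) (hc1 : c ≠ 1) (hcp : c ^ p = 1)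
    (hcomm : ∀ g ∈ S, ∀ x ∈ S, ⁅g, x⁆ ∈ Subgroup.zpowers (c : Ω))
    {a : MulAut E} (ha : a ∈ F.autGroup E) {u₀ : MulAut E} (hu₀ : u₀ ∈ Cfsg.autInducedBy S E)
    (hne : a * u₀ * a⁻¹ ∉ Cfsg.autInducedBy S E) :
    ∃ (g : Ω) (hg : g ∈ S) (v : MulAut E) (y : E), g ∉ E ∧ v ∈ F.autGroup E ∧ y = a c ∧
      (y : Ω) ∉ centre S ∧ y ^ p = 1 ∧ Pair (conjAut (h.norm g hg)) v c y ∧
      a * u₀ * a⁻¹ ∈ Subgroup.zpowers v ∧
      v ∈ Subgroup.zpowers (a * conjAut (h.norm g hg) * a⁻¹) := by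
  have := finite_of_le h.le
  have := finite_mulAut E
  obtain ⟨g₁, hg₁, hg₁E⟩ := h.exists_not_mem
  set u := conjAut (h.norm g₁ hg₁) with hu
  have hAS := autS_eq_zpowers h hg₁ hg₁E
  have huF : u ∈ F.autGroup E :=
    autInducedBy_le_autGroup F h.le (conjAut_mem_autInducedBy _ hg₁)
  have hec : ∀ x z : E, x * z = z * x := fun x z => Subtype.ext (h.comm x x.2 z z.2)
  have huc : u c = c := Subtype.ext (by
    show g₁ * (c : Ω) * g₁⁻¹ = c
    rw [(mem_centre.1 hcc).2 g₁ hg₁, mul_inv_cancel_right])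
  have hshift : ∀ k : E, ∃ m : ℤ, u k = k * c ^ m := by
    intro k
    obtain ⟨m, hm⟩ := hcomm g₁ hg₁ k (h.le k.2)
    change (c : Ω) ^ m = ⁅g₁, (k : Ω)⁆ at hm
    refine ⟨m, ?_⟩
    rw [hec k]
    refine Subtype.ext ?_
    rw [Subgroup.coe_mul, Subgroup.coe_zpow, hm, commutatorElement_def]
    show g₁ * (k : Ω) * g₁⁻¹ = _
    group
  have hup : u ^ p = 1 := by
    refine MulEquiv.ext fun k => ?_
    obtain ⟨m, hm⟩ := hshift k
    rw [pow_fix_mul (β := u) hm (by rw [map_zpow, huc]) p, ← zpow_natCast, zpow_comm, zpow_natCast,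
      hcp, one_zpow]
    simp
  have hufix : ∀ {k : E}, u k = k → (k : Ω) ∈ centre S := fun hk =>
    h.mem_centre_of_comm hg₁ hg₁E (Subtype.prop _) (mul_inv_eq_iff_eq_mul.1 (congrArg Subtype.val hk))
  rw [hAS] at hu₀ hne
  -- no `p`-group of automorphisms contains `u` and an element outside `⟨u⟩`
  have hmax : ∀ v ∈ F.autGroup E, IsPGroup p (Subgroup.closure ({u, v} : Set (MulAut E))) →
      v ∈ Subgroup.zpowers u := by
    intro v hv hX
    obtain ⟨⟨-, hauto⟩, -⟩ := fullyNormalized_props hS hF h.alperin.fullyNormalized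
    obtain ⟨b, -, hb⟩ := exists_conj_into_autS
      (fullyNormalized_props hS hF h.alperin.fullyNormalized).1
      (show Subgroup.closure ({u, v} : Set (MulAut E)) ≤ F.autGroup E from
        (Subgroup.closure_le _).2 (by rintro w (rfl | rfl) <;> assumption)) hX
    have hle : Subgroup.zpowers u ≤ Subgroup.closure ({u, v} : Set (MulAut E)) :=
      Subgroup.zpowers_le.2 (Subgroup.subset_closure (by simp))
    have hcard : Nat.card (Subgroup.closure ({u, v} : Set (MulAut E))) ≤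
        Nat.card (Subgroup.zpowers u) := by
      refine Nat.card_le_card_of_injective
        (fun x => (⟨b * (x : MulAut E) * b⁻¹, hAS ▸ hb x x.2⟩ : Subgroup.zpowers u)) fun x y hxy => ?_
      exact Subtype.ext (mul_left_cancel (mul_right_cancel (congrArg Subtype.val hxy)))
    exact (Subgroup.eq_of_le_of_card_ge hle hcard).ge (Subgroup.subset_closure (by simp))
  let v := a * u * a⁻¹
  have hvF : v ∈ F.autGroup E := mul_mem (mul_mem ha huF) (inv_mem ha)
  have hv_not : v ∉ Subgroup.zpowers u := by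
    intro hv
    obtain ⟨i, rfl⟩ := hu₀
    refine hne ?_
    rw [← conj_zpow]
    exact Subgroup.zpow_mem _ hv i
  let y : E := a c
  have hvshift : ∀ k : E, ∃ m : ℤ, v k = k * y ^ m := by
    intro k
    obtain ⟨m, hm⟩ := hshift (a⁻¹ k)
    refine ⟨m, ?_⟩
    show a (u (a⁻¹ k)) = _
    rw [hm, map_mul, map_zpow, MulAut.inv_def, MulEquiv.apply_symm_apply]
  have hvy : v y = y := by
    show a (u (a⁻¹ (a c))) = a c
    rw [MulAut.inv_def, MulEquiv.symm_apply_apply, huc]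
  have hyp : y ^ p = 1 := by rw [← map_pow, hcp, map_one]
  have hyc : (y : Ω) ∉ centre S := by
    intro hy
    have huy : u y = y := Subtype.ext (by
      show g₁ * (y : Ω) * g₁⁻¹ = y
      rw [(mem_centre.1 hy).2 g₁ hg₁, mul_inv_cancel_right])
    refine hv_not (hmax v hvF (isPGroup_closure_stab (hS.to_le h.le) hec (c := y) (y := c) ?_ ?_))
    · refine ⟨huy, ⟨0, by rw [zpow_zero, mul_one, huc]⟩, fun k => ?_⟩
      obtain ⟨m, hm⟩ := hshift k
      exact ⟨0, m, by rw [hm, zpow_zero, mul_one]⟩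
    · refine ⟨hvy, hvshift c, fun k => ?_⟩
      obtain ⟨m, hm⟩ := hvshift k
      exact ⟨m, 0, by rw [hm, zpow_zero, mul_one]⟩
  obtain ⟨e, he⟩ := hshift y
  have hed : ¬ (p : ℤ) ∣ e := fun hd => hyc (hufix (by
    rw [he, CfsgLib.GenExtraspecial.zpow_eq_one_of_dvd hcp hd, mul_one]))
  obtain ⟨i, hi⟩ := CfsgLib.GenExtraspecial.exists_mul_mod_eq hed 1
  have hid : ¬ (p : ℤ) ∣ (i : ℤ) := fun hd => hp.out.ne_one (by
    exact_mod_cast Int.eq_one_of_dvd_one (by omega) ((dvd_sub (hd.mul_right e) hi).trans (by simp)))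
  have hgE : g₁ ^ i ∉ E := by
    intro hgi
    have : u ^ i = 1 := by
      refine MulEquiv.ext fun k => Subtype.ext ?_
      have : u ^ i = conjAut (pow_mem (h.norm g₁ hg₁) i) := by
        show (E.normalizerMonoidHom _) ^ i = E.normalizerMonoidHom _
        rw [← map_pow]
        rfl
      rw [this, conjAut_apply, h.comm _ hgi k k.2]
      simp
    have hu1 : u = 1 := by
      obtain ⟨n, hn⟩ := mem_zpowers_of_pow hup hid
      rw [← hn]
      show (u ^ (i : ℤ)) ^ n = 1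
      rw [zpow_natCast, this, one_zpow]
    exact hv_not (by simp [v, hu1])
  have hu' : conjAut (h.norm (g₁ ^ i) (S.pow_mem hg₁ i)) = u ^ i := by
    show E.normalizerMonoidHom _ = (E.normalizerMonoidHom _) ^ i
    rw [← map_pow]
    rfl
  -- the pair
  have hu'y : (u ^ i) y = y * c := by
    rw [pow_fix_mul (β := u) he (by rw [map_zpow, huc]) i, ← zpow_natCast (c ^ e) i, ← zpow_mul,
      show e * (i : ℤ) = ((i : ℤ) * e - 1) + 1 by ring, zpow_add,
      CfsgLib.GenExtraspecial.zpow_eq_one_of_dvd hcp hi, one_mul, zpow_one]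
  have hu'c : (u ^ i) c = c := by
    rw [pow_fix_mul (β := u) (z := 1) (by rw [huc, mul_one]) (map_one u) i, one_pow, mul_one]
  obtain ⟨m, hm⟩ := hvshift c
  have hmd : ¬ (p : ℤ) ∣ m := by
    intro hd
    have hvc : v c = c := by rw [hm, CfsgLib.GenExtraspecial.zpow_eq_one_of_dvd hyp hd, mul_one]
    refine hv_not (hmax v hvF (isPGroup_closure_stab (hS.to_le h.le) hec (c := c) (y := y) ?_ ?_))
    · refine ⟨huc, ⟨e, he⟩, fun k => ?_⟩
      obtain ⟨m, hm⟩ := hshift k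
      exact ⟨m, 0, by rw [hm, zpow_zero, mul_one]⟩
    · refine ⟨hvc, ⟨0, by rw [zpow_zero, mul_one, hvy]⟩, fun k => ?_⟩
      obtain ⟨m, hm⟩ := hvshift k
      exact ⟨0, m, by rw [hm, zpow_zero, mul_one]⟩
  obtain ⟨s, hs⟩ := CfsgLib.GenExtraspecial.exists_mul_mod_eq hmd (-1)
  have hsd : ¬ (p : ℤ) ∣ (s : ℤ) := fun hd => by
    have h1 := dvd_sub (hd.mul_right m) hs
    rw [sub_sub_cancel, Int.dvd_neg] at h1
    exact hp.out.ne_one (by exact_mod_cast Int.eq_one_of_dvd_one (by omega) h1)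
  refine ⟨g₁ ^ i, S.pow_mem hg₁ i, v ^ s, y, hgE, pow_mem hvF s, rfl, hyc, hyp, ?_, ?_, ?_⟩
  · refine ⟨hec, ?_, ?_, ?_, ?_, ?_, ?_⟩
    · intro k
      obtain ⟨n, hn⟩ := hshift k
      refine ⟨n * i, ?_⟩
      rw [hu', pow_fix_mul (β := u) hn (by rw [map_zpow, huc]) i, zpow_mul, zpow_natCast]
    · intro k
      obtain ⟨n, hn⟩ := hvshift k
      refine ⟨n * s, ?_⟩
      rw [pow_fix_mul (β := v) hn (by rw [map_zpow, hvy]) s, zpow_mul, zpow_natCast]
    · rw [hu']; exact hu'c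
    · rw [hu']; exact hu'y
    · rw [pow_fix_mul (β := v) (z := 1) (by rw [hvy, mul_one]) (map_one v) s, one_pow, mul_one]
    · rw [pow_fix_mul (β := v) hm (by rw [map_zpow, hvy]) s, ← zpow_natCast (y ^ m) s, ← zpow_mul,
        ← zpow_neg_one y, show m * (s : ℤ) = ((s : ℤ) * m - -1) + -1 by ring, zpow_add,
        CfsgLib.GenExtraspecial.zpow_eq_one_of_dvd hyp hs, one_mul]
  · obtain ⟨l, rfl⟩ := hu₀
    have hvp : v ^ p = 1 := by rw [conj_pow, hup, mul_one, mul_inv_cancel]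
    rw [← conj_zpow]
    have hvs : v ∈ Subgroup.zpowers (v ^ s) := by
      have := mem_zpowers_of_pow hvp hsd
      rwa [zpow_natCast] at this
    exact Subgroup.zpow_mem _ hvs l
  · have : v ∈ Subgroup.zpowers (a * conjAut (h.norm (g₁ ^ i) (S.pow_mem hg₁ i)) * a⁻¹) := by
      rw [hu', ← conj_pow]
      obtain ⟨n, hn⟩ := mem_zpowers_of_pow (show v ^ p = 1 by rw [conj_pow, hup, mul_one, mul_inv_cancel]) hid
      refine ⟨n, ?_⟩
      show (v ^ i) ^ n = v
      rw [← zpow_natCast v i]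
      exact hn
    exact Subgroup.pow_mem _ this s

/-- Some conjugate of `Aut_S(E)` is different from it. -/
theorem exists_conj_not_mem (hS : IsPGroup p S) {E : Subgroup Ω} (h : Maximal S F p E) :
    ∃ a ∈ F.autGroup E, ∃ u₀ ∈ Cfsg.autInducedBy S E, a * u₀ * a⁻¹ ∉ Cfsg.autInducedBy S E := by
  by_contra hne
  push Not at hne
  obtain ⟨g, hg, hgE⟩ := h.exists_not_mem
  have := finite_of_le h.le
  have := finite_mulAut E
  refine hgE (mem_of_mem_pCore_of_radical h.alperin.centric h.alperin.radical ⟨hg, h.norm g hg⟩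
    fun hm => ?_)
  have hn : ((Cfsg.autInducedBy S E).subgroupOf (F.autGroup E)).Normal :=
    ⟨fun x hx b => hne b b.2 x hx⟩
  exact le_sSup (a := (Cfsg.autInducedBy S E).subgroupOf (F.autGroup E))
    (s := {N : Subgroup (F.autGroup E) | N.Normal ∧ IsPGroup p N})
    ⟨hn, (isPGroup_autInducedBy hS E).comap_of_injective _ (Subgroup.subtype_injective _)⟩
    (conjAut_mem_autInducedBy _ hg)

end CfsgLib.CenterIndexSq
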