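import Cfsg.Agent.CenterIndexSq.Basic

/-!
Automorphisms of `E` commuting with `Aut_S(E)` extend to `S`; the common fixed points in odd characteristic.
-/

set_option autoImplicit false

namespace CfsgLib.CenterIndexSq

open CfsgLib.Fus CfsgLib.Fusion.Alperin Cfsg.FusionSystem
open scoped commutatorElement

variable {Ω : Type*} [Group Ω] {S : Subgroup Ω} [Finite S] {p : ℕ} [hp : Fact p.Prime]
  {F : Cfsg.FusionSystem S}

theorem extends_to_top (hS : IsPGroup p S) (hF : F.IsSaturated p) {E : Subgroup Ω} (h : Maximal S F p E)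
    {g : Ω} (hg : g ∈ S) (hgE : g ∉ E) {α : MulAut E} (hα : α ∈ F.autGroup E)
    (hc : α * conjAut (h.norm g hg) = conjAut (h.norm g hg) * α) :
    ∃ γ ∈ F.autGroup S, ∀ (k : Ω) (hk : k ∈ E), ((γ ⟨k, h.le hk⟩ : S) : Ω) = ((α ⟨k, hk⟩ : E) : Ω) := by
  have hrec := (fullyNormalized_props hS hF h.alperin.fullyNormalized).2
  have hφ : E.subtype.comp α.toMonoidHom ∈ F.Hom E := (mem_autGroup_iff F h.le).1 hα
  have hr : (E.subtype.comp α.toMonoidHom).range = E := range_subtype_comp α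
  have hgX : g ∈ extender S E (E.subtype.comp α.toMonoidHom) := by
    refine mem_extender_of_congr hφ hr hg (h.norm g hg) ?_
    have e : isoOf hφ hr = α := MulEquiv.ext fun k => Subtype.ext rfl
    rw [e]
    show α * conjAut (h.norm g hg) * α⁻¹ ∈ _
    rw [hc, mul_inv_cancel_right]
    exact conjAut_mem_autInducedBy _ hg
  have hN : S ≤ extender S E (E.subtype.comp α.toMonoidHom) := by
    intro x hx
    obtain ⟨i, k, hk, rfl⟩ := h.gen g hg hgE x hx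
    exact mul_mem (zpow_mem hgX i) (le_extender F hφ hk)
  obtain ⟨ψ, hψ, he⟩ := exists_ext hrec hφ hr h.le hN
  have hψr : ψ.range = S := Subgroup.eq_of_le_of_card_ge
    (fun _ ⟨x, hx⟩ => hx ▸ hom_mem F hψ x) (isConj_card ⟨ψ, hψ, rfl⟩).le
  exact ⟨isoOf hψ hψr, isoOf_mem_autGroup hψ hψr, fun k hk => he ⟨k, hk⟩⟩

omit [Finite S] hp in
theorem aut_mem_centre (γ : MulAut S) {z : Ω} (hz : z ∈ centre S) :
    ((γ ⟨z, (mem_centre.1 hz).1⟩ : S) : Ω) ∈ centre S := by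
  refine mem_centre.2 ⟨(γ ⟨z, (mem_centre.1 hz).1⟩).2, fun x hx => ?_⟩
  obtain ⟨w, hw⟩ := γ.surjective ⟨x, hx⟩
  rw [show x = ((γ w : S) : Ω) from (congrArg Subtype.val hw).symm, ← Subgroup.coe_mul, ← Subgroup.coe_mul,
    ← map_mul, ← map_mul]
  exact congrArg (fun t => ((γ t : S) : Ω)) (Subtype.ext ((mem_centre.1 hz).2 w w.2))

theorem aut_mem_zpowers {c : Ω} (hcS : c ∈ S) (hcomm : ∀ g ∈ S, ∀ x ∈ S, ⁅g, x⁆ ∈ Subgroup.zpowers c)
    {a b : Ω} (ha : a ∈ S) (hb : b ∈ S) (hgen : c ∈ Subgroup.zpowers ⁅a, b⁆) (γ : MulAut S) :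
    ∃ l : ℤ, ((γ ⟨c, hcS⟩ : S) : Ω) = c ^ l := by
  obtain ⟨n, hn⟩ := hgen
  obtain ⟨m, hm⟩ := hcomm _ (γ ⟨a, ha⟩).2 _ (γ ⟨b, hb⟩).2
  refine ⟨m * n, ?_⟩
  have e : (⟨c, hcS⟩ : S) = ⁅(⟨a, ha⟩ : S), ⟨b, hb⟩⁆ ^ n := Subtype.ext hn.symm
  rw [e, map_zpow, map_commutatorElement, zpow_mul]
  exact congrArg (· ^ n) hm.symm

/-- Automorphisms in the system that are trivial on `⟨c⟩` and on `Z(S)/⟨c⟩` are trivial on `Z(S)`. -/
theorem fix_centre_of_stab (hS : IsPGroup p S) (hF : F.IsSaturated p) {c : Ω} (hcS : c ∈ S)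
    (hcp : c ^ p = 1) {γ : MulAut S} (hγ : γ ∈ F.autGroup S) (hγc : γ ⟨c, hcS⟩ = ⟨c, hcS⟩)
    (hγZ : ∀ z : S, z ∈ Subgroup.center S → ∃ n : ℤ, γ z = z * ⟨c, hcS⟩ ^ n) :
    ∀ z : S, z ∈ Subgroup.center S → γ z = z := by
  let T : Subgroup (MulAut S) :=
    { carrier := {β | ∀ z : S, z ∈ Subgroup.center S → β z = z}
      one_mem' := fun z _ => rfl
      mul_mem' := fun {a b} ha hb z hz => by rw [MulAut.mul_apply, hb z hz, ha z hz]
      inv_mem' := fun {a} ha z hz => by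
        conv_lhs => rw [← ha z hz, MulAut.inv_def, MulEquiv.symm_apply_apply] }
  have hp1 : γ ^ p ∈ T := by
    intro z hz
    obtain ⟨n, hn⟩ := hγZ z hz
    rw [pow_fix_mul (β := γ) hn (by rw [map_zpow, hγc]) p, ← zpow_natCast, zpow_comm, zpow_natCast,
      show (⟨c, hcS⟩ : S) ^ p = 1 from Subtype.ext hcp, one_zpow, mul_one]
  have := finite_mulAut S
  obtain ⟨k, m, hm, hkm⟩ := Nat.exists_eq_pow_mul_and_not_dvd (orderOf_pos γ).ne' p hp.out.ne_one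
  have hpm : γ ^ m ∈ T := by
    have hX : IsPGroup p (Subgroup.zpowers (γ ^ m)) := by
      rintro ⟨_, i, rfl⟩
      refine ⟨k, Subtype.ext ?_⟩
      show ((γ ^ m) ^ i) ^ (p ^ k) = 1
      rw [← zpow_natCast, zpow_comm, zpow_natCast, ← pow_mul, mul_comm, ← hkm, pow_orderOf_eq_one,
        one_zpow]
    obtain ⟨b, -, hb⟩ := exists_conj_into_autS
      (fullyNormalized_props hS hF (isFullyNormalized_top F)).1
      (Subgroup.zpowers_le.2 (pow_mem hγ m)) hX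
    obtain ⟨s, hs, hse⟩ := mem_autInducedBy_iff.1 (hb _ (Subgroup.mem_zpowers _))
    intro z hz
    have hbz : b z ∈ Subgroup.center S := by
      rw [Subgroup.mem_center_iff] at hz ⊢
      intro x
      obtain ⟨w, rfl⟩ := b.surjective x
      rw [← map_mul, ← map_mul, hz]
    have h1 := hse (b z)
    rw [show s * ((b z : S) : Ω) * s⁻¹ = ((b z : S) : Ω) by
      rw [congrArg Subtype.val (Subgroup.mem_center_iff.1 hbz ⟨s, hs⟩) |> fun e =>
        (show s * ((b z : S) : Ω) = ((b z : S) : Ω) * s from e), mul_inv_cancel_right]] at h1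
    have h2 : b ((γ ^ m) (b⁻¹ (b z))) = b z := Subtype.ext h1
    rw [MulAut.inv_def, MulEquiv.symm_apply_apply] at h2
    exact b.injective h2
  intro z hz
  obtain ⟨x, y, hxy⟩ : IsCoprime (m : ℤ) (p : ℤ) := by
    rw [Int.isCoprime_iff_nat_coprime]
    exact ((hp.out.coprime_iff_not_dvd.2 hm).symm)
  have : γ ∈ T := by
    have e : γ = (γ ^ m) ^ x * (γ ^ p) ^ y := by
      rw [← zpow_natCast, ← zpow_mul, ← zpow_natCast γ p, ← zpow_mul, ← zpow_add,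
        mul_comm (m : ℤ), mul_comm (p : ℤ), hxy, zpow_one]
    rw [e]
    exact mul_mem (zpow_mem hpm x) (zpow_mem hp1 y)
  exact this z hz

/-- The automorphism of `S` inverting `c` coming from a pair. -/
theorem exists_inverting (hS : IsPGroup p S) (hF : F.IsSaturated p) {E : Subgroup Ω}
    (h : Maximal S F p E) {c y : E} (hyc : (y : Ω) ∉ centre S) (hyp : y ^ p = 1)
    (hcc : (c : Ω) ∈ centre S) {g : Ω} (hg : g ∈ S) (hgE : g ∉ E) {v : MulAut E}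
    (hv : v ∈ F.autGroup E) (hpair : Pair (conjAut (h.norm g hg)) v c y) :
    ∃ γ ∈ F.autGroup S, ((γ ⟨c, h.le c.2⟩ : S) : Ω) = ((c : Ω))⁻¹ ∧
      (∀ k : E, (k : Ω) ∈ centre S → ∃ k₀ : E, (conjAut (h.norm g hg) k₀ = k₀ ∧ v k₀ = k₀) ∧
        ∃ i : ℤ, (k : Ω) = k₀ * (c : Ω) ^ i ∧ ((γ ⟨k, h.le k.2⟩ : S) : Ω) = k₀ * (c : Ω) ^ (-i)) := by
  obtain ⟨γ, hγ, hγe⟩ := extends_to_top hS hF h hg hgE
    (hpair.neg_mem (autInducedBy_le_autGroup F h.le (conjAut_mem_autInducedBy _ hg)) hv) hpair.neg_comm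
  refine ⟨γ, hγ, ?_, fun k hk => ?_⟩
  · rw [hγe c c.2, hpair.neg_c]
    rfl
  · obtain ⟨k₀, hk₀, i, j, hkij⟩ := hpair.exists_decomp k
    have hj : (p : ℤ) ∣ j := by
      by_contra hj
      refine hyc ?_
      have hk₀c : (k₀ : Ω) ∈ centre S := h.mem_centre_of_comm hg hgE k₀.2
        (mul_inv_eq_iff_eq_mul.1 (congrArg Subtype.val hk₀.1))
      have hyj : ((y : Ω)) ^ j ∈ centre S := by
        have e : (y : Ω) ^ j = ((k₀ : Ω) * (c : Ω) ^ i)⁻¹ * k := by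
          have h2 := congrArg Subtype.val hkij
          simp only [Subgroup.coe_mul, Subgroup.coe_zpow] at h2
          rw [h2]; group
        rw [e]
        exact mul_mem (inv_mem (mul_mem hk₀c (zpow_mem hcc i))) hk
      obtain ⟨n, hn⟩ := mem_zpowers_of_pow (show (y : Ω) ^ p = 1 from congrArg Subtype.val hyp) hj
      rw [← hn]
      exact zpow_mem hyj n
    rw [CfsgLib.GenExtraspecial.zpow_eq_one_of_dvd hyp hj, mul_one] at hkij
    refine ⟨k₀, hk₀, i, by rw [hkij]; rfl, ?_⟩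
    rw [hγe k k.2, show (⟨(k : Ω), k.2⟩ : E) = k from rfl, hkij, map_mul, map_zpow,
      hpair.neg_fix hk₀.1 hk₀.2, hpair.neg_c]
    rw [inv_zpow']
    rfl

/-- The common subgroup of fixed points, for odd `p`. -/
theorem exists_common_odd (hS : IsPGroup p S) (hF : F.IsSaturated p) (hp2 : p ≠ 2)
    (hmax : ∀ R, IsAlperinSubgroup F p R → R ≠ S → Maximal S F p R)
    {E : Subgroup Ω} (hE : Maximal S F p E) {c : Ω} (hcc : c ∈ centre S) (hc1 : c ≠ 1) (hcp : c ^ p = 1)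
    (hcomm : ∀ g ∈ S, ∀ x ∈ S, ⁅g, x⁆ ∈ Subgroup.zpowers c) :
    ∃ K : Subgroup Ω, K ≤ centre S ∧ (∀ R, IsAlperinSubgroup F p R → ∀ α ∈ F.autGroup R,
        ∀ x : R, (x : Ω) ∈ K → ((α x : R) : Ω) ∈ K) ∧
      ∀ z ∈ centre S, ∃ k ∈ K, ∃ i : ℤ, z = k * c ^ i := by
  have hcS : c ∈ S := (mem_centre.1 hcc).1
  have hzS : ∀ {z : Ω}, z ∈ centre S → z ∈ S := fun hz => (mem_centre.1 hz).1
  have hmk : ∀ {z : S}, z ∈ Subgroup.center S → (z : Ω) ∈ centre S := fun hz => ⟨_, hz, rfl⟩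
  have hcentral : ∀ {z : Ω} (hz : z ∈ centre S), (⟨z, hzS hz⟩ : S) ∈ Subgroup.center S := fun hz => by
    obtain ⟨w, hw, e⟩ := hz
    exact (Subtype.ext e : w = ⟨_, _⟩) ▸ hw
  -- any two inverting automorphisms agree on the centre
  have hagree : ∀ γ₁ ∈ F.autGroup S, ∀ γ₂ ∈ F.autGroup S,
      (γ₁ ⟨c, hcS⟩ = ⟨c, hcS⟩⁻¹) → (γ₂ ⟨c, hcS⟩ = ⟨c, hcS⟩⁻¹) →
      (∀ z : S, z ∈ Subgroup.center S → ∃ n : ℤ, γ₁ z = z * ⟨c, hcS⟩ ^ n) →
      (∀ z : S, z ∈ Subgroup.center S → ∃ n : ℤ, γ₂ z = z * ⟨c, hcS⟩ ^ n) →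
      ∀ z : S, z ∈ Subgroup.center S → γ₁ z = γ₂ z := by
    intro γ₁ h₁ γ₂ h₂ e₁ e₂ s₁ s₂ z hz
    have key := fix_centre_of_stab hS hF hcS hcp (mul_mem (inv_mem h₂) h₁)
      (by rw [MulAut.mul_apply, e₁, ← e₂, MulAut.inv_def, MulEquiv.symm_apply_apply]) (fun w hw => by
        obtain ⟨n, hn⟩ := s₁ w hw
        obtain ⟨m, hm⟩ := s₂ w hw
        refine ⟨m - n, ?_⟩
        rw [MulAut.mul_apply, hn, MulAut.inv_def, MulEquiv.symm_apply_eq, map_mul, map_zpow, hm, e₂,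
          inv_zpow', mul_assoc, ← zpow_add, show m + -(m - n) = n by ring]) z hz
    rw [MulAut.mul_apply, MulAut.inv_def, MulEquiv.symm_apply_eq] at key
    exact key
  -- the pair attached to a conjugate gives an inverting automorphism
  have hpairs : ∀ (R : Subgroup Ω) (h : Maximal S F p R) (a : MulAut R), a ∈ F.autGroup R →
      ∀ u₀ ∈ Cfsg.autInducedBy S R, a * u₀ * a⁻¹ ∉ Cfsg.autInducedBy S R →
      ∃ γ ∈ F.autGroup S, γ ⟨c, hcS⟩ = ⟨c, hcS⟩⁻¹ ∧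
        (∀ z : S, z ∈ Subgroup.center S → ∃ n : ℤ, γ z = z * ⟨c, hcS⟩ ^ n) ∧
        ∀ z : R, ∀ hz : (z : Ω) ∈ centre S, γ ⟨z, hzS hz⟩ = ⟨z, hzS hz⟩ →
          (a * u₀ * a⁻¹ : MulAut R) z = z := by
    intro R h a ha u₀ hu₀ hne
    obtain ⟨g, hg, v, y, hgR, hv, -, hyc, hyp, hpair, hav, -⟩ := exists_pair hS hF h
      (c := ⟨c, h.centre_le hcc⟩) hcc (fun e => hc1 (congrArg Subtype.val e)) (Subtype.ext hcp) hcomm ha
      hu₀ hne
    obtain ⟨γ, hγ, hγc, hγk⟩ := exists_inverting hS hF h hyc hyp hcc hg hgR hv hpair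
    refine ⟨γ, hγ, Subtype.ext hγc, fun z hz => ?_, fun z hz hfix => ?_⟩
    · obtain ⟨k₀, -, i, hzi, hγz⟩ := hγk ⟨z, h.centre_le (hmk hz)⟩ (hmk hz)
      refine ⟨-(2 * i), Subtype.ext ?_⟩
      rw [show (γ z : Ω) = _ from hγz]
      show (k₀ : Ω) * c ^ (-i) = (z : Ω) * c ^ (-(2 * i))
      rw [show (z : Ω) = k₀ * c ^ i from hzi, mul_assoc, ← zpow_add]
      ring_nf
    · obtain ⟨k₀, hk₀, i, hzi, hγz⟩ := hγk z hz
      have h2 : (k₀ : Ω) * c ^ (-i) = k₀ * c ^ i := by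
        rw [← hzi, ← show ((γ ⟨z, hzS hz⟩ : S) : Ω) = _ from hγz]
        exact congrArg Subtype.val hfix
      have h3 : c ^ (i + i) = 1 := by
        have := mul_left_cancel h2
        rw [zpow_add]
        nth_rw 1 [← this]
        rw [← zpow_add, neg_add_cancel, zpow_zero]
      have hi : (p : ℤ) ∣ i := by
        have h4 := CfsgLib.GenExtraspecial.dvd_of_zpow_eq_one hcp hc1 h3
        rw [← two_mul] at h4
        rcases (Nat.prime_iff_prime_int.1 hp.out).dvd_or_dvd h4 with h5 | h5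
        · exact absurd (Nat.le_of_dvd two_pos (by exact_mod_cast h5)) (by
            have := hp.out.two_le; omega)
        · exact h5
      rw [CfsgLib.GenExtraspecial.zpow_eq_one_of_dvd hcp hi, mul_one] at hzi
      obtain ⟨n, hn⟩ := hav
      rw [show z = k₀ from Subtype.ext hzi, ← hn]
      show (v ^ n) k₀ = k₀
      have hmem : v ∈ MulAction.stabilizer (MulAut R) k₀ := hk₀.2
      exact zpow_mem hmem n
  obtain ⟨a₀, ha₀, u₀, hu₀, hne₀⟩ := exists_conj_not_mem hS hE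
  obtain ⟨g₀, hg₀, v₀, y₀, hg₀E, hv₀, -, hy₀c, hy₀p, hpair₀, -, -⟩ := exists_pair hS hF hE
    (c := ⟨c, hE.centre_le hcc⟩) hcc (fun e => hc1 (congrArg Subtype.val e)) (Subtype.ext hcp) hcomm ha₀
    hu₀ hne₀
  obtain ⟨β, hβ, hβc, hβk⟩ := exists_inverting hS hF hE hy₀c hy₀p hcc hg₀ hg₀E hv₀ hpair₀
  have hβZ : ∀ z : S, z ∈ Subgroup.center S → ∃ n : ℤ, β z = z * ⟨c, hcS⟩ ^ n := fun z hz => by
    obtain ⟨k₀, -, i, hzi, hγz⟩ := hβk ⟨z, hE.centre_le (hmk hz)⟩ (hmk hz)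
    refine ⟨-(2 * i), Subtype.ext ?_⟩
    rw [show (β z : Ω) = _ from hγz]
    show (k₀ : Ω) * c ^ (-i) = (z : Ω) * c ^ (-(2 * i))
    rw [show (z : Ω) = k₀ * c ^ i from hzi, mul_assoc, ← zpow_add]
    ring_nf
  let K : Subgroup Ω :=
    (Subgroup.center S ⊓ MonoidHom.eqLocus β.toMonoidHom (MonoidHom.id S)).map S.subtype
  have hK : ∀ {z : Ω}, z ∈ K ↔ ∃ hz : z ∈ centre S, β ⟨z, hzS hz⟩ = ⟨z, hzS hz⟩ := by
    intro z
    constructor
    · rintro ⟨w, ⟨hw, hfix⟩, rfl⟩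
      exact ⟨hmk hw, hfix⟩
    · rintro ⟨hz, hfix⟩
      exact ⟨⟨z, hzS hz⟩, ⟨hcentral hz, hfix⟩, rfl⟩
  -- the fixed points of `β` lie in every `fixSub`
  have hKle : ∀ (R : Subgroup Ω) (h : Maximal S F p R), K ≤ fixSub F R := by
    intro R h z hz
    obtain ⟨hzc, hfix⟩ := hK.1 hz
    refine (mem_fixSub (k := (⟨z, h.centre_le hzc⟩ : R))).2 fun b hb a ha => ?_
    by_cases hba : b * a * b⁻¹ ∈ Cfsg.autInducedBy S R
    · obtain ⟨x, hx, hxa⟩ := mem_autInducedBy_iff.1 hba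
      refine Subtype.ext ((hxa _).trans ?_)
      rw [(mem_centre.1 hzc).2 x hx, mul_inv_cancel_right]
    · obtain ⟨γ, hγ, hγc, hγZ, hγfix⟩ := hpairs R h b hb a ha hba
      refine hγfix _ hzc ?_
      rw [hagree γ hγ β hβ hγc (Subtype.ext hβc) hγZ hβZ _ (hcentral hzc)]
      exact hfix
  refine ⟨K, fun z hz => (hK.1 hz).1, fun R hR α hα x hx => ?_, fun z hz => ?_⟩
  · by_cases hRS : R = S
    · subst hRS
      obtain ⟨hxc, hfix⟩ := hK.1 hx
      refine hK.2 ⟨aut_mem_centre α hxc, ?_⟩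
      obtain ⟨g, hg, hgE⟩ := hE.exists_not_mem
      obtain ⟨r, hr, hrc⟩ := hE.not_centre
      have hgen : c ∈ Subgroup.zpowers ⁅g, r⁆ := by
        obtain ⟨m, hm⟩ := hcomm g hg r (hE.le hr)
        change c ^ m = ⁅g, r⁆ at hm
        have hmd : ¬ (p : ℤ) ∣ m := fun hd => hrc (hE.mem_centre_of_comm hg hgE hr
          (commutatorElement_eq_one_iff_mul_comm.1 (hm ▸
            CfsgLib.GenExtraspecial.zpow_eq_one_of_dvd hcp hd)))
        rw [← hm]
        exact mem_zpowers_of_pow hcp hmd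
      obtain ⟨l, hl⟩ := aut_mem_zpowers hcS hcomm hg (hE.le hr) hgen α
      have hl' : α ⟨c, hcS⟩ = (⟨c, hcS⟩ : R) ^ l := Subtype.ext hl
      have hl2 : (α⁻¹ : MulAut R) ((⟨c, hcS⟩ : R) ^ l) = ⟨c, hcS⟩ := by
        rw [← hl', MulAut.inv_def, MulEquiv.symm_apply_apply]
      have hαc : ∀ w : R, w ∈ Subgroup.center R → α w ∈ Subgroup.center R := fun w hw => by
        rw [Subgroup.mem_center_iff] at hw ⊢
        intro t
        obtain ⟨t', rfl⟩ := α.surjective t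
        rw [← map_mul, ← map_mul, hw]
      have hαc' : ∀ w : R, w ∈ Subgroup.center R → (α⁻¹ : MulAut R) w ∈ Subgroup.center R := by
        intro w hw
        rw [Subgroup.mem_center_iff] at hw ⊢
        intro t
        apply α.injective
        rw [map_mul, map_mul, MulAut.inv_def, MulEquiv.apply_symm_apply, hw]
      have hcon : ∀ w : R, w ∈ Subgroup.center R → β w = (α * β * α⁻¹ : MulAut R) w := by
        refine hagree β hβ _ (mul_mem (mul_mem hα hβ) (inv_mem hα)) (Subtype.ext hβc) ?_ hβZ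
          fun w hw => ?_
        · obtain ⟨q, hq⟩ : ∃ q : ℤ, ((α⁻¹ : MulAut R) ⟨c, hcS⟩ : Ω) = c ^ q :=
            aut_mem_zpowers hcS hcomm hg (hE.le hr) hgen α⁻¹
          have hq' : (α⁻¹ : MulAut R) ⟨c, hcS⟩ = (⟨c, hcS⟩ : R) ^ q := Subtype.ext hq
          have hq2 : α ((⟨c, hcS⟩ : R) ^ q) = ⟨c, hcS⟩ := by
            rw [← hq', MulAut.inv_def, MulEquiv.apply_symm_apply]
          rw [MulAut.mul_apply, MulAut.mul_apply, hq', map_zpow,
            show β ⟨c, hcS⟩ = (⟨c, hcS⟩ : R)⁻¹ from Subtype.ext hβc, inv_zpow, map_inv, hq2]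
        · obtain ⟨n, hn⟩ := hβZ _ (hαc' w hw)
          refine ⟨l * n, ?_⟩
          rw [MulAut.mul_apply, MulAut.mul_apply, hn, map_mul, map_zpow, hl', MulAut.inv_def,
            MulEquiv.apply_symm_apply, zpow_mul]
      have hα' : α x ∈ Subgroup.center R := hαc x (hcentral hxc)
      show β (α x) = α x
      rw [hcon _ hα', MulAut.mul_apply, MulAut.mul_apply, MulAut.inv_def, MulEquiv.symm_apply_apply]
      exact congrArg α hfix
    · have h := hmax R hR hRS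
      obtain ⟨a, ha, u, hu, hne⟩ := exists_conj_not_mem hS h
      obtain ⟨g, hg, v, y, hgR, hv, -, hyc, hyp, hpair, -, hvmem⟩ := exists_pair hS hF h
        (c := ⟨c, h.centre_le hcc⟩) hcc (fun e => hc1 (congrArg Subtype.val e)) (Subtype.ext hcp) hcomm
        ha hu hne
      obtain ⟨γ, hγ, hγc, hγk⟩ := exists_inverting hS hF h hyc hyp hcc hg hgR hv hpair
      have hαx := apply_mem_fixSub hα (hKle R h hx)
      have hzc := fixSub_le_centre h hαx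
      refine hK.2 ⟨hzc, ?_⟩
      obtain ⟨k₀, hk₀, i, hzi, hγz⟩ := hγk (α x) hzc
      have hvfix : v (α x) = α x := by
        obtain ⟨n, hn⟩ := hvmem
        rw [← hn]
        show ((a * conjAut (h.norm g hg) * a⁻¹) ^ n) (α x) = α x
        exact zpow_mem (show a * conjAut (h.norm g hg) * a⁻¹ ∈ MulAction.stabilizer (MulAut R) (α x)
          from mem_fixSub.1 hαx a ha _ (conjAut_mem_autInducedBy _ hg)) n
      have hγfix : γ ⟨((α x : R) : Ω), hzS hzc⟩ = ⟨_, hzS hzc⟩ := by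
        apply Subtype.ext
        rw [show ((γ ⟨((α x : R) : Ω), hzS hzc⟩ : S) : Ω) = _ from hγz]
        show (k₀ : Ω) * c ^ (-i) = _
        have e : α x = k₀ * (⟨c, h.centre_le hcc⟩ : R) ^ i := Subtype.ext hzi
        rw [e, map_mul, map_zpow, hk₀.2, hpair.vc] at hvfix
        have h2 := mul_left_cancel hvfix
        rw [(show Commute (⟨c, h.centre_le hcc⟩ : R) y⁻¹ from hpair.comm _ _).mul_zpow] at h2
        have hi : (p : ℤ) ∣ i := CfsgLib.GenExtraspecial.dvd_of_zpow_eq_one hyp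
          (fun hy1 => hyc (by rw [hy1]; exact one_mem _))
          (inv_eq_one.1 (by rw [← inv_zpow]; exact mul_left_cancel (h2.trans (mul_one _).symm)))
        rw [hzi, CfsgLib.GenExtraspecial.zpow_eq_one_of_dvd hcp hi,
          CfsgLib.GenExtraspecial.zpow_eq_one_of_dvd hcp hi.neg_right]
      rw [← hagree γ hγ β hβ (Subtype.ext hγc) (Subtype.ext hβc) (fun w hw => ?_) hβZ _ (hcentral hzc)]
      · exact hγfix
      · obtain ⟨k₁, -, j, hwj, hγw⟩ := hγk ⟨w, h.centre_le (hmk hw)⟩ (hmk hw)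
        refine ⟨-(2 * j), Subtype.ext ?_⟩
        rw [show (γ w : Ω) = _ from hγw]
        show (k₁ : Ω) * c ^ (-j) = (w : Ω) * c ^ (-(2 * j))
        rw [show (w : Ω) = k₁ * c ^ j from hwj, mul_assoc, ← zpow_add]
        ring_nf
  · obtain ⟨k₀, -, i, hzi, hγz⟩ := hβk ⟨z, hE.centre_le hz⟩ hz
    have hk₀z : (k₀ : Ω) ∈ centre S := by
      rw [show (k₀ : Ω) = z * (c ^ i)⁻¹ by rw [show z = k₀ * c ^ i from hzi]; group]
      exact mul_mem hz (inv_mem (zpow_mem hcc i))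
    refine ⟨k₀, hK.2 ⟨hk₀z, Subtype.ext ?_⟩, i, hzi⟩
    have e : (⟨(k₀ : Ω), hzS hk₀z⟩ : S) = ⟨z, hzS hz⟩ * (⟨c, hcS⟩ ^ i)⁻¹ := Subtype.ext (by
      show (k₀ : Ω) = z * (c ^ i)⁻¹
      rw [show z = k₀ * c ^ i from hzi]; group)
    rw [e, map_mul, map_inv, map_zpow, Subgroup.coe_mul, Subgroup.coe_inv, Subgroup.coe_zpow,
      show ((β ⟨c, hcS⟩ : S) : Ω) = c⁻¹ from hβc, show ((β ⟨z, hzS hz⟩ : S) : Ω) = _ from hγz]
    show (k₀ : Ω) * c ^ (-i) * ((c⁻¹) ^ i)⁻¹ = z * (c ^ i)⁻¹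
    rw [show z = k₀ * c ^ i from hzi]
    group

end CfsgLib.CenterIndexSq
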