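import Cfsg.Agent.CenterIndexSq.Two
import Cfsg.Agent.Involution.Dihedral

/-!
A saturated system with trivial core and full hyperfocal subgroup over a `p`-group with centre of index at most
`p ^ 2` lives on a group of order `p ^ 3` generated by two elements of order `p`.
-/

set_option autoImplicit false

namespace CfsgLib.CenterIndexSq

open CfsgLib.Fus CfsgLib.Fusion.Alperin Cfsg.FusionSystem
open scoped commutatorElement

variable {Ω : Type*} [Group Ω] {S : Subgroup Ω} [Finite S] {p : ℕ} [hp : Fact p.Prime]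
  {F : Cfsg.FusionSystem S}

theorem exists_rel (hS : IsPGroup p S) (hF : F.IsSaturated p) (hS1 : S ≠ ⊥) (hcore : F.core = ⊥)
    (hhyp : F.hyperfocalSubgroup p = S) (hZ : (Subgroup.center S).index ≤ p ^ 2) :
    ∃ x y z : S, CfsgLib.GenExtraspecial.Rel p x y z ∧ Subgroup.closure ({x, y} : Set S) = ⊤ := by
  have hmax : ∀ R, IsAlperinSubgroup F p R → R ≠ S → Maximal S F p R := fun R hR hne =>
    maximal_of_alperin hS hZ hR hne
  have hbot : ∀ {Q : Subgroup Ω}, F.IsNormal Q → Q = ⊥ := fun hQ =>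
    le_bot_iff.1 (hcore ▸ le_core hQ)
  obtain ⟨E, hE⟩ : ∃ E, Maximal S F p E := by
    by_contra hne
    push Not at hne
    exact hS1 (hbot ((isNormal_top_iff hS hF).2 fun R hR => by_contra fun h => hne R (hmax R hR h)))
  obtain ⟨c, hcc, hc1, hcp, hcomm⟩ := exists_commutator_gen hE
  obtain ⟨K, hKc, hKinv, hKdec⟩ : ∃ K : Subgroup Ω, K ≤ centre S ∧
      (∀ R, IsAlperinSubgroup F p R → ∀ α ∈ F.autGroup R, ∀ x : R, (x : Ω) ∈ K →
        ((α x : R) : Ω) ∈ K) ∧ ∀ z ∈ centre S, ∃ k ∈ K, ∃ i : ℤ, z = k * c ^ i := by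
    by_cases hp2 : p = 2
    · subst hp2
      exact exists_common_two hS hF hmax hE hcc hc1 hcp hcomm hhyp
    · exact exists_common_odd hS hF hp2 hmax hE hcc hc1 hcp hcomm
  have hK : K = ⊥ := hbot (isNormal_criterion hS hF (fun k hk => (mem_centre.1 (hKc hk)).1)
    (fun R hR => by
      by_cases hRS : R = S
      · rw [hRS]; exact fun k hk => (mem_centre.1 (hKc hk)).1
      · exact hKc.trans (hmax R hR hRS).centre_le) hKinv)
  have hcyc : ∀ z ∈ centre S, ∃ i : ℤ, z = c ^ i := fun z hz => by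
    obtain ⟨k, hk, i, rfl⟩ := hKdec z hz
    rw [hK, Subgroup.mem_bot] at hk
    exact ⟨i, by rw [hk, one_mul]⟩
  have hgen : ∀ (R : Subgroup Ω) (h : Maximal S F p R), ∃ y ∈ R, y ∉ centre S ∧ y ^ p = 1 := by
    intro R h
    obtain ⟨a, ha, u, hu, hne⟩ := exists_conj_not_mem hS h
    obtain ⟨g, hg, v, y, -, -, -, hyc, hyp, -⟩ := exists_pair hS hF h (c := ⟨c, h.centre_le hcc⟩) hcc
      (fun e => hc1 (congrArg Subtype.val e)) (Subtype.ext hcp) hcomm ha hu hne
    exact ⟨y, y.2, hyc, congrArg Subtype.val hyp⟩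
  have hexp : ∀ (R : Subgroup Ω) (_ : Maximal S F p R), ∀ k ∈ R, k ^ p = 1 := by
    intro R h k hk
    obtain ⟨y, hy, hyc, hyp⟩ := hgen R h
    obtain ⟨j, z, hz, rfl⟩ := h.gen' y hy hyc k hk
    obtain ⟨i, rfl⟩ := hcyc z hz
    have hyc' : Commute y c := (mem_centre.1 hcc).2 y (h.le hy)
    rw [(hyc'.zpow_zpow j i).mul_pow, ← zpow_natCast, ← zpow_natCast (c ^ i), zpow_comm, zpow_comm c,
      zpow_natCast, zpow_natCast, hyp, hcp, one_zpow, one_zpow, mul_one]
  obtain ⟨x₀, hx₀, hx₀E, hx₀p⟩ : ∃ x ∈ S, x ∉ E ∧ x ^ p = 1 := by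
    by_contra hne
    push Not at hne
    have hEset : ∀ x ∈ S, x ^ p = 1 → x ∈ E := fun x hx hxp => by_contra fun h => hne x hx h hxp
    have hall : ∀ R, Maximal S F p R → R = E := by
      intro R h
      have hle : R ≤ E := fun k hk => hEset k (h.le hk) (hexp R h k hk)
      refine le_antisymm hle fun k hk => ?_
      obtain ⟨y, hy, hyc, -⟩ := hgen R h
      obtain ⟨i, z, hz, rfl⟩ := hE.gen' y (hle hy) hyc k hk
      exact mul_mem (zpow_mem hy i) (h.centre_le hz)
    have hEn : F.IsNormal E := by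
      refine isNormal_criterion hS hF hE.le (fun R hR => ?_) fun R hR α hα x hx => ?_
      · by_cases hRS : R = S
        · rw [hRS]; exact hE.le
        · exact (hall R (hmax R hR hRS)).ge
      · refine hEset _ (hR.centric.1 (Subtype.prop _)) ?_
        rw [← Subgroup.coe_pow, ← map_pow, show x ^ p = 1 from Subtype.ext (hexp E hE x hx), map_one]
        rfl
    exact hc1 (Subgroup.mem_bot.1 (hbot hEn ▸ hE.centre_le hcc))
  obtain ⟨y, hy, hyc, hyp⟩ := hgen E hE
  obtain ⟨m, hm⟩ := hcomm x₀ hx₀ y (hE.le hy)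
  change c ^ m = ⁅x₀, y⁆ at hm
  have hmd : ¬ (p : ℤ) ∣ m := fun hd => hyc (hE.mem_centre_of_comm hx₀ hx₀E hy
    (commutatorElement_eq_one_iff_mul_comm.1 (hm ▸ CfsgLib.GenExtraspecial.zpow_eq_one_of_dvd hcp hd)))
  have hcmem : c ∈ Subgroup.zpowers (c ^ m) := mem_zpowers_of_pow hcp hmd
  let x' : S := ⟨x₀, hx₀⟩
  let y' : S := ⟨y, hE.le hy⟩
  let z' : S := ⟨c ^ m, zpow_mem (mem_centre.1 hcc).1 m⟩
  have hcm : ∀ h ∈ S, h * c ^ m = c ^ m * h := fun h hh =>
    (Commute.zpow_right ((mem_centre.1 hcc).2 h hh) m).eq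
  have hrel : CfsgLib.GenExtraspecial.Rel p x' y' z' :=
    { xp := Subtype.ext hx₀p
      yp := Subtype.ext hyp
      zp := Subtype.ext (show (c ^ m) ^ p = 1 by
        rw [← zpow_natCast, zpow_comm, zpow_natCast, hcp, one_zpow])
      z1 := fun e => hc1 (by
        obtain ⟨i, hi⟩ := hcmem
        rw [← hi]
        show (c ^ m) ^ i = 1
        rw [show c ^ m = 1 from congrArg Subtype.val e, one_zpow])
      xz := Subtype.ext (hcm x₀ hx₀)
      yz := Subtype.ext (hcm y (hE.le hy))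
      conj := Subtype.ext (show x₀ * y * x₀⁻¹ = y * c ^ m by
        rw [hcm y (hE.le hy), hm, commutatorElement_def]; group) }
  refine ⟨x', y', z', hrel, eq_top_iff.2 fun s _ => ?_⟩
  obtain ⟨i, k, hk, hs⟩ := hE.gen x₀ hx₀ hx₀E s s.2
  obtain ⟨j, w, hw, rfl⟩ := hE.gen' y hy hyc k hk
  obtain ⟨l, rfl⟩ := hcyc w hw
  obtain ⟨n, hn⟩ := hcmem
  have e : s = x' ^ i * (y' ^ j * z' ^ (n * l)) := by
    apply Subtype.ext
    simp only [Subgroup.coe_mul, Subgroup.coe_zpow, x', y', z']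
    rw [hs, zpow_mul]
    exact congrArg (fun t => x₀ ^ i * (y ^ j * t ^ l)) hn.symm
  rw [e]
  exact mul_mem (zpow_mem (Subgroup.subset_closure (by simp)) i)
    (mul_mem (zpow_mem (Subgroup.subset_closure (by simp)) j) (zpow_mem hrel.z_mem _))

theorem main (hS : IsPGroup p S) (hF : F.IsSaturated p) (hS1 : S ≠ ⊥) (hcore : F.core = ⊥)
    (hhyp : F.hyperfocalSubgroup p = S) (hZ : (Subgroup.center S).index ≤ p ^ 2) :
    Cfsg.IsExtraspecial p S ∧ Nat.card S = p ^ 3 ∧ (p ≠ 2 → Monoid.exponent S = p) ∧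
      (p = 2 → Nonempty (S ≃* DihedralGroup 4)) := by
  obtain ⟨x, y, z, h, hgen⟩ := exists_rel hS hF hS1 hcore hhyp hZ
  refine ⟨h.isExtraspecial hgen, h.card_eq hgen, fun hp2 => ?_, fun hp2 => ?_⟩
  · refine Nat.dvd_antisymm (Monoid.exponent_dvd_of_forall_pow_eq_one (h.pow_eq_one hgen hp2)) ?_
    have h1 := Monoid.order_dvd_exponent z
    rwa [orderOf_eq_prime h.zp h.z1] at h1
  · subst hp2
    have hy1 : y ≠ 1 := fun hy => h.z1 (by
      have h1 := h.conj
      rw [hy] at h1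
      simpa using h1.symm)
    have hx1 : x ≠ 1 := fun hx => h.z1 (by
      have h1 := h.conj
      rw [hx] at h1
      simpa using h1)
    have hx2 : x⁻¹ = x := inv_eq_of_mul_eq_one_right (by rw [← pow_two]; exact h.xp)
    have hsq : (x * y) ^ 2 = z := by
      calc (x * y) ^ 2 = (x * y * x⁻¹) * y := by rw [hx2, pow_two]; group
        _ = y * y * z := by rw [h.conj, mul_assoc, ← h.yz, ← mul_assoc]
        _ = z := by rw [← pow_two, h.yp, one_mul]
    have h4 : orderOf (x * y) = 4 := by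
      refine orderOf_eq_prime_pow (p := 2) (n := 1) ?_ ?_
      · rw [pow_one, hsq]; exact h.z1
      · rw [show 2 ^ (1 + 1) = 2 * 2 from rfl, pow_mul, hsq]; exact h.zp
    obtain ⟨d⟩ := CfsgLib.Involution.nonempty_dihedral_equiv
      (orderOf_eq_prime h.xp hx1) (orderOf_eq_prime h.yp hy1)
    rw [h4, hgen] at d
    exact ⟨Subgroup.topEquiv.symm.trans d⟩

end CfsgLib.CenterIndexSq
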