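import Cfsg.Agent.CenterIndexSq.Extend

/-!
The common fixed points at the prime two: the transvections of `Aut_F(E)` are exactly three, so every automorphism
of the system over `S` stabilizes every proper Alperin subgroup, and the hyperfocal condition makes the fixed
points agree.
-/

set_option autoImplicit false

namespace CfsgLib.CenterIndexSq

open CfsgLib.Fus CfsgLib.Fusion.Alperin Cfsg.FusionSystem
open scoped commutatorElement

variable {Ω : Type*} [Group Ω] {S : Subgroup Ω} [Finite S] [Fact (Nat.Prime 2)]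
  {F : Cfsg.FusionSystem S}

theorem zpow_two_cases {G : Type*} [Group G] {x : G} (hx : x ^ 2 = 1) (i : ℤ) : x ^ i = 1 ∨ x ^ i = x := by
  rcases Int.emod_two_eq i with h | h
  · left
    exact CfsgLib.GenExtraspecial.zpow_eq_one_of_dvd hx (Int.dvd_of_emod_eq_zero (by exact_mod_cast h))
  · right
    rw [show i = (i - 1) + 1 by ring, zpow_add,
      CfsgLib.GenExtraspecial.zpow_eq_one_of_dvd hx (Int.dvd_of_emod_eq_zero (by omega)), one_mul, zpow_one]

/-- The three transvections of a proper Alperin subgroup. -/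
structure Triangle (F : Cfsg.FusionSystem S) {E : Subgroup Ω} (h : Maximal S F 2 E) (c : E) (g : Ω)
    (hg : g ∈ S) (v : MulAut E) (y : E) : Prop where
  not_mem : g ∉ E
  v_mem : v ∈ F.autGroup E
  y_not : (y : Ω) ∉ centre S
  y_sq : y ^ 2 = 1
  pair : Pair (conjAut (h.norm g hg)) v c y
  u_sq : conjAut (h.norm g hg) * conjAut (h.norm g hg) = 1
  v_sq : v * v = 1
  autS : ∀ a ∈ Cfsg.autInducedBy S E, a = 1 ∨ a = conjAut (h.norm g hg)
  conj_uvu : conjAut (h.norm g hg) * v * conjAut (h.norm g hg) = v * conjAut (h.norm g hg) * v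
  exists_y : ∃ a ∈ F.autGroup E, y = a c
  cls : ∀ b ∈ F.autGroup E, (b c = c ∨ b c = y ∨ b c = c * y) ∧
    (b * conjAut (h.norm g hg) * b⁻¹ = conjAut (h.norm g hg) ∨ b * conjAut (h.norm g hg) * b⁻¹ = v ∨
      b * conjAut (h.norm g hg) * b⁻¹ = v * conjAut (h.norm g hg) * v)

theorem Triangle.v_c {E : Subgroup Ω} {h : Maximal S F 2 E} {c y : E} {g : Ω} {hg : g ∈ S} {v : MulAut E}
    (t : Triangle F h c g hg v y) : v c = c * y := by
  rw [t.pair.vc, inv_eq_of_mul_eq_one_right (show y * y = 1 by rw [← pow_two]; exact t.y_sq)]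

theorem Triangle.mem_fixSub_iff {E : Subgroup Ω} {h : Maximal S F 2 E} {c y : E} {g : Ω} {hg : g ∈ S}
    {v : MulAut E} (t : Triangle F h c g hg v y) {k : E} :
    (k : Ω) ∈ fixSub F E ↔ conjAut (h.norm g hg) k = k ∧ v k = k := by
  have hu := autInducedBy_le_autGroup F h.le (conjAut_mem_autInducedBy (h.norm g hg) hg)
  constructor
  · intro hk
    have h1 := mem_fixSub.1 hk
    obtain ⟨a, ha, hya⟩ := t.exists_y
    refine ⟨by simpa using h1 1 (one_mem _) _ (conjAut_mem_autInducedBy _ hg), ?_⟩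
    rcases (t.cls a ha).2 with e | e | e
    · exfalso
      have h2 : a * conjAut (h.norm g hg) * a⁻¹ = conjAut (h.norm g hg) := e
      have h3 := congrArg (fun f : MulAut E => f y) h2
      simp only [MulAut.mul_apply] at h3
      rw [hya, MulAut.inv_def, MulEquiv.symm_apply_apply, t.pair.uc, ← hya, t.pair.uy] at h3
      have hc1 : c = 1 := mul_left_cancel (a := y) (by rw [mul_one]; exact h3.symm)
      exact t.y_not (by rw [hya, hc1, map_one]; exact one_mem _)
    · rw [← e]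
      exact h1 a ha _ (conjAut_mem_autInducedBy _ hg)
    · have h2 := h1 a ha _ (conjAut_mem_autInducedBy (h.norm g hg) hg)
      have h3 : conjAut (h.norm g hg) k = k := by simpa using h1 1 (one_mem _) _ (conjAut_mem_autInducedBy _ hg)
      rw [e, ← t.conj_uvu, MulAut.mul_apply, MulAut.mul_apply, h3] at h2
      have h4 := congrArg (conjAut (h.norm g hg)) h2
      rwa [← MulAut.mul_apply, t.u_sq, MulAut.one_apply, h3] at h4
  · rintro ⟨hu, hv⟩
    refine mem_fixSub.2 fun b hb a ha => ?_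
    rcases t.autS a ha with rfl | rfl
    · simp
    · rcases (t.cls b hb).2 with e | e | e <;> rw [e]
      · exact hu
      · exact hv
      · simp only [MulAut.mul_apply, hu, hv]

theorem exists_triangle (hS : IsPGroup 2 S) (hF : F.IsSaturated 2) {E : Subgroup Ω} (h : Maximal S F 2 E)
    {c : E} (hcc : (c : Ω) ∈ centre S) (hc1 : c ≠ 1) (hcp : c ^ 2 = 1)
    (hcomm : ∀ g ∈ S, ∀ x ∈ S, ⁅g, x⁆ ∈ Subgroup.zpowers (c : Ω)) :
    ∃ (g : Ω) (hg : g ∈ S) (v : MulAut E) (y : E), Triangle F h c g hg v y := by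
  have := finite_of_le h.le
  have := finite_mulAut E
  obtain ⟨a₀, ha₀, u₀, hu₀, hne₀⟩ := exists_conj_not_mem hS h
  obtain ⟨g, hg, v, y, hgE, hv, hy, hyc, hyp, hpair, -, hvmem⟩ :=
    exists_pair hS hF h hcc hc1 hcp hcomm ha₀ hu₀ hne₀
  set u := conjAut (h.norm g hg) with hu
  have huF : u ∈ F.autGroup E := autInducedBy_le_autGroup F h.le (conjAut_mem_autInducedBy _ hg)
  have hcyc : ∀ {x : E}, x ^ 2 = 1 → ∀ (α : MulAut E), α x = x → (∀ k, ∃ m : ℤ, α k = k * x ^ m) →
      α * α = 1 := by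
    intro x hx α hαx hα
    refine MulEquiv.ext fun k => ?_
    obtain ⟨m, hm⟩ := hα k
    rw [← pow_two, pow_fix_mul (β := α) hm (by rw [map_zpow, hαx]) 2, ← zpow_natCast, zpow_comm,
      zpow_natCast, hx, one_zpow, mul_one, MulAut.one_apply]
  have hu2 := hcyc hcp u hpair.uc hpair.u_shift
  have hv2 := hcyc hyp v hpair.vy hpair.v_shift
  have hu1 : u ≠ 1 := fun e => hc1 (by
    have := hpair.uy
    rw [e, MulAut.one_apply] at this
    exact mul_left_cancel (a := y) (by rw [mul_one]; exact this.symm))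
  have hyinv : y⁻¹ = y := inv_eq_of_mul_eq_one_right (by rw [← pow_two]; exact hyp)
  have hcinv : c⁻¹ = c := inv_eq_of_mul_eq_one_right (by rw [← pow_two]; exact hcp)
  have hvc : v c = c * y := by rw [hpair.vc, hyinv]
  have hautS : ∀ a ∈ Cfsg.autInducedBy S E, a = 1 ∨ a = u := by
    intro a ha
    rw [autS_eq_zpowers h hg hgE] at ha
    obtain ⟨i, rfl⟩ := ha
    exact zpow_two_cases (by rw [pow_two]; exact hu2) i
  have hv1 : v ≠ 1 := fun e => hyc (by
    have h2 := hvc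
    rw [e, MulAut.one_apply] at h2
    rw [show y = 1 from mul_left_cancel (a := c) (by rw [mul_one]; exact h2.symm)]
    exact one_mem _)
  have hva : v = a₀ * u * a₀⁻¹ := by
    obtain ⟨i, hi⟩ := hvmem
    rcases zpow_two_cases (show (a₀ * u * a₀⁻¹) ^ 2 = 1 by
      rw [conj_pow, pow_two, hu2, mul_one, mul_inv_cancel]) i with e | e
    · exact absurd (hi.symm.trans e) hv1
    · exact hi.symm.trans e
  -- a pair for every conjugate different from `u`
  have hpairs : ∀ b ∈ F.autGroup E, b * u * b⁻¹ ≠ u →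
      (b c) ^ 2 = 1 ∧ Pair u (b * u * b⁻¹) c (b c) := by
    intro b hb hne
    obtain ⟨g', hg', v', y', hgE', -, hy', -, hyp', hpair', -, hvmem'⟩ :=
      exists_pair hS hF h hcc hc1 hcp hcomm hb (conjAut_mem_autInducedBy (h.norm g hg) hg) (fun hm => by
        rcases hautS _ hm with e | e
        · exact hu1 (conj_eq_one_iff.1 e)
        · exact hne e)
    subst hy'
    have hu' : conjAut (h.norm g' hg') = u := by
      rcases hautS _ (conjAut_mem_autInducedBy (h.norm g' hg') hg') with e | e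
      · exfalso
        have := hpair'.uy
        rw [e, MulAut.one_apply] at this
        exact hc1 (mul_left_cancel (a := b c) (by rw [mul_one]; exact this.symm))
      · exact e
    rw [hu'] at hpair' hvmem'
    obtain ⟨i, hi⟩ := hvmem'
    rcases zpow_two_cases (show (b * u * b⁻¹) ^ 2 = 1 by
      rw [conj_pow, pow_two, hu2, mul_one, mul_inv_cancel]) i with e | e
    · exfalso
      have h2 := hpair'.vc
      rw [hi.symm.trans e, MulAut.one_apply] at h2
      have h4 : (b c)⁻¹ = 1 := mul_left_cancel (a := c) (by rw [mul_one]; exact h2.symm)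
      rw [inv_eq_one] at h4
      exact hc1 (b.injective (h4.trans (map_one b).symm))
    · rw [hi.symm.trans e] at hpair'
      exact ⟨hyp', hpair'⟩
  have hec : ∀ x z : E, x * z = z * x := hpair.comm
  have hcyc2 : c * y * c = y := by
    rw [hec c y, mul_assoc, ← pow_two, hcp, mul_one]
  have hcls : ∀ b ∈ F.autGroup E, (b c = c ∨ b c = y ∨ b c = c * y) ∧
      (b * u * b⁻¹ = u ∨ b * u * b⁻¹ = v ∨ b * u * b⁻¹ = v * u * v) := by
    intro b hb
    obtain ⟨w, hw⟩ : ∃ w, b * u * b⁻¹ = w := ⟨_, rfl⟩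
    have hwshift : ∀ k, ∃ m : ℤ, w k = k * (b c) ^ m := fun k => by
      obtain ⟨m, hm⟩ := hpair.u_shift (b⁻¹ k)
      refine ⟨m, ?_⟩
      rw [← hw]
      show b (u (b⁻¹ k)) = _
      rw [hm, map_mul, map_zpow, MulAut.inv_def, MulEquiv.apply_symm_apply]
    have hb2 : (b c) ^ 2 = 1 := by rw [← map_pow, hcp, map_one]
    rw [hw]
    by_cases hwu : w = u
    · refine ⟨Or.inl ?_, Or.inl hwu⟩
      obtain ⟨m, hm⟩ := hwshift y
      rw [hwu, hpair.uy] at hm
      have := mul_left_cancel hm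
      rcases zpow_two_cases hb2 m with e | e
      · exact absurd (this.trans e) hc1
      · exact (this.trans e).symm
    obtain ⟨hd2, hp2⟩ := hpairs b hb (by rw [hw]; exact hwu)
    rw [hw] at hp2
    have hdinv : (b c)⁻¹ = b c := inv_eq_of_mul_eq_one_right (by rw [← pow_two]; exact hd2)
    have hwc : w c = c * b c := by rw [hp2.vc, hdinv]
    by_cases hwv : w = v
    · refine ⟨Or.inr (Or.inl ?_), Or.inr (Or.inl hwv)⟩
      rw [hwv, hvc] at hwc
      exact (mul_left_cancel hwc).symm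
    -- the third case
    have hab : (a₀⁻¹ * b) * u * (a₀⁻¹ * b)⁻¹ ≠ u := by
      intro e
      apply hwv
      rw [← hw, hva]
      calc b * u * b⁻¹ = a₀ * ((a₀⁻¹ * b) * u * (a₀⁻¹ * b)⁻¹) * a₀⁻¹ := by group
        _ = _ := by rw [e]
    obtain ⟨he2, hp3⟩ := hpairs (a₀⁻¹ * b) (mul_mem (inv_mem ha₀) hb) hab
    have hcancel : ∀ k : E, a₀ (a₀⁻¹ k) = k := fun k => by rw [MulAut.inv_def, MulEquiv.apply_symm_apply]
    have hvd : v (b c) = b c * y := by
      have := congrArg a₀ hp3.uy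
      rw [map_mul, MulAut.mul_apply, hcancel, ← hy] at this
      rw [hva]
      exact this
    have heinv : ((a₀⁻¹ * b) c)⁻¹ = (a₀⁻¹ * b) c :=
      inv_eq_of_mul_eq_one_right (by rw [← pow_two]; exact he2)
    have hwy : w y = y * b c := by
      have := congrArg a₀ hp3.vc
      rw [heinv, map_mul, show (a₀⁻¹ * b) c = a₀⁻¹ (b c) from rfl, hcancel, ← hy] at this
      rw [← this, ← hw, hy]
      simp only [MulAut.mul_apply, mul_inv_rev, inv_inv]
      rw [hcancel]
    let u' := v * u * v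
    have hu'shift : ∀ k, ∃ n : ℤ, u' k = k * (c * y) ^ n := by
      intro k
      obtain ⟨n, hn⟩ := hpair.u_shift (v k)
      refine ⟨n, ?_⟩
      show v (u (v k)) = _
      rw [hn, map_mul, map_zpow, hvc, ← MulAut.mul_apply, hv2, MulAut.one_apply]
    have hu'd : u' (b c) = b c := by
      show v (u (v (b c))) = b c
      rw [hvd, map_mul, hp2.uy, hpair.uy, mul_assoc, ← mul_assoc c, hcyc2, map_mul, hvd, hpair.vy,
        mul_assoc, ← pow_two, hyp, mul_one]
    have hwcy : w (c * y) = c * y := by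
      rw [map_mul, hwc, hwy]
      calc c * b c * (y * b c) = c * ((b c * y) * b c) := by group
        _ = c * ((y * b c) * b c) := by rw [hec (b c) y]
        _ = c * y := by rw [mul_assoc y, ← pow_two, hd2, mul_one]
    have hcom : u' * w = w * u' := by
      refine MulEquiv.ext fun k => ?_
      obtain ⟨m, hm⟩ := hwshift k
      obtain ⟨n, hn⟩ := hu'shift k
      show u' (w k) = w (u' k)
      rw [hm, map_mul u', map_zpow u', hu'd, hn, map_mul w, map_zpow w, hwcy, hm,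
        mul_assoc, mul_assoc, hec ((c * y) ^ n)]
    have hu'2 : u' * u' = 1 := by
      show v * u * v * (v * u * v) = 1
      rw [show v * u * v * (v * u * v) = v * u * (v * v) * u * v by group, hv2, mul_one, mul_assoc v, hu2,
        mul_one, hv2]
    have hw2 : w * w = 1 := by
      rw [← hw, show b * u * b⁻¹ * (b * u * b⁻¹) = b * (u * u) * b⁻¹ by group, hu2, mul_one, mul_inv_cancel]
    have hwF : w ∈ F.autGroup E := hw ▸ mul_mem (mul_mem hb huF) (inv_mem hb)
    have hu'F : u' ∈ F.autGroup E := mul_mem (mul_mem hv huF) hv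
    have hX : IsPGroup 2 (Subgroup.closure ({u', w} : Set (MulAut E))) := by
      have hcl : ∀ x ∈ Subgroup.closure ({u', w} : Set (MulAut E)),
          x * x = 1 ∧ x * u' = u' * x ∧ x * w = w * x := by
        intro x hx
        induction hx using Subgroup.closure_induction with
        | mem x hx =>
          rcases hx with rfl | hx
          · exact ⟨hu'2, rfl, hcom⟩
          · rw [Set.mem_singleton_iff] at hx
            subst hx
            exact ⟨hw2, hcom.symm, rfl⟩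
        | one => simp
        | mul x z hxm hzm hx hz =>
          have hxz : Commute x z := by
            have : z ∈ Subgroup.centralizer ({x} : Set (MulAut E)) := by
              refine (Subgroup.closure_le _).2 ?_ hzm
              rintro r (rfl | rfl) <;> rw [SetLike.mem_coe, Subgroup.mem_centralizer_singleton_iff]
              · exact hx.2.1.symm
              · exact hx.2.2.symm
            exact (Subgroup.mem_centralizer_singleton_iff.1 this).symm
          refine ⟨?_, ((show Commute x u' from hx.2.1).mul_left hz.2.1).eq,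
            ((show Commute x w from hx.2.2).mul_left hz.2.2).eq⟩
          calc x * z * (x * z) = x * (z * x) * z := by group
            _ = x * x * (z * z) := by rw [← hxz.eq]; group
            _ = 1 := by rw [hx.1, hz.1, one_mul]
        | inv x _ hx =>
          have e : x⁻¹ = x := inv_eq_of_mul_eq_one_right hx.1
          rw [e]; exact hx
      rintro ⟨x, hx⟩
      exact ⟨1, Subtype.ext (by rw [pow_one]; simpa [pow_two] using (hcl x hx).1)⟩
    obtain ⟨b₂, -, hb₂⟩ := exists_conj_into_autS (fullyNormalized_props hS hF h.alperin.fullyNormalized).1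
      (show Subgroup.closure ({u', w} : Set (MulAut E)) ≤ F.autGroup E from
        (Subgroup.closure_le _).2 (by rintro r (rfl | rfl) <;> assumption)) hX
    have hu'1 : u' ≠ 1 := fun e => hu1 (by
      calc u = v * (v * u * v) * v := by
            rw [show v * (v * u * v) * v = (v * v) * u * (v * v) by group, hv2, one_mul, mul_one]
        _ = v * 1 * v := by rw [show v * u * v = 1 from e]
        _ = 1 := by rw [mul_one, hv2])
    have hw1 : w ≠ 1 := fun e => hu1 (conj_eq_one_iff.1 (hw.trans e))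
    have heq : u' = w := by
      have h1 := hautS _ (hb₂ u' (Subgroup.subset_closure (by simp)))
      have h2 := hautS _ (hb₂ w (Subgroup.subset_closure (by simp)))
      rw [or_iff_right (fun e => hu'1 (conj_eq_one_iff.1 e))] at h1
      rw [or_iff_right (fun e => hw1 (conj_eq_one_iff.1 e))] at h2
      exact mul_left_cancel (mul_right_cancel (h1.trans h2.symm))
    refine ⟨Or.inr (Or.inr ?_), Or.inr (Or.inr heq.symm)⟩
    have hu'c : u' c = y := by
      show v (u (v c)) = y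
      rw [hvc, map_mul, hpair.uc, hpair.uy, ← mul_assoc, hcyc2, hpair.vy]
    rw [← heq, hu'c] at hwc
    rw [hwc, ← mul_assoc, ← pow_two, hcp, one_mul]
  refine ⟨g, hg, v, y, hgE, hv, hyc, hyp, hpair, hu2, hv2, hautS, ?_, ⟨a₀, ha₀, hy⟩, hcls⟩
  have huinv : u⁻¹ = u := inv_eq_of_mul_eq_one_right hu2
  rcases (hcls (u * a₀) (mul_mem huF ha₀)).2 with e | e | e
  all_goals rw [show (u * a₀) * u * (u * a₀)⁻¹ = u * (a₀ * u * a₀⁻¹) * u⁻¹ by group, ← hva, huinv] at e
  · exfalso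
    have h2 : v = u := by
      calc v = u * (u * v * u) * u := by
            rw [show u * (u * v * u) * u = (u * u) * v * (u * u) by group, hu2, one_mul, mul_one]
        _ = u := by rw [e, hu2, one_mul]
    have h3 := hpair.uy
    rw [← h2, hpair.vy] at h3
    exact hc1 (mul_left_cancel (a := y) (by rw [mul_one]; exact h3.symm))
  · exfalso
    have h2 : u * v = v * u := by
      calc u * v = u * v * (u * u) := by rw [hu2, mul_one]
        _ = (u * v * u) * u := by group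
        _ = v * u := by rw [e]
    have h3 := congrArg (fun f : MulAut E => f c) h2
    simp only [MulAut.mul_apply, hvc, map_mul, hpair.uc, hpair.uy, ← mul_assoc, hcyc2] at h3
    exact hc1 (mul_right_cancel (b := y) (by rw [one_mul]; exact h3.symm))
  · exact e

/-- Every automorphism in the system of `S` stabilizes each proper Alperin subgroup. -/
theorem autGroup_stabilizes (hS : IsPGroup 2 S) (hF : F.IsSaturated 2) {E : Subgroup Ω} (h : Maximal S F 2 E)
    {c : E} {g : Ω} {hg : g ∈ S} {v : MulAut E} {y : E} (t : Triangle F h c g hg v y)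
    (hcc : (c : Ω) ∈ centre S) (hc1 : c ≠ 1) (hcp : c ^ 2 = 1)
    (hcomm : ∀ g ∈ S, ∀ x ∈ S, ⁅g, x⁆ ∈ Subgroup.zpowers (c : Ω)) :
    (∀ r ∈ S, ∀ s ∈ S, r ∉ E → s ∉ E → r ^ 2 = 1 → s ^ 2 = 1 → r⁻¹ * s ∈ centre S) ∧
    ∀ γ ∈ F.autGroup S, ∀ k : S, (k : Ω) ∈ E → ((γ k : S) : Ω) ∈ E := by
  have := finite_mulAut S
  have hno : ∀ r ∈ S, ∀ s ∈ S, r ∉ E → s ∉ E → r ^ 2 = 1 → s ^ 2 = 1 → r⁻¹ * s ∈ centre S := by
    intro r hr s hs hrE hsE hr2 hs2
    obtain ⟨i, k, hk, rfl⟩ := h.gen r hr hrE s hs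
    rcases zpow_two_cases hr2 i with e | e
    · rw [e, one_mul] at hsE
      exact absurd hk hsE
    rw [e] at hs2 ⊢
    rw [inv_mul_cancel_left]
    obtain ⟨j, z, hz, rfl⟩ := h.gen' y y.2 t.y_not k hk
    rcases zpow_two_cases (show (y : Ω) ^ 2 = 1 from congrArg Subtype.val t.y_sq) j with e2 | e2
    · rw [e2, one_mul]; exact hz
    exfalso
    rw [e2] at hs2
    have hzc : Commute z (r * y) :=
      ((mem_centre.1 hz).2 _ (S.mul_mem hr (h.le y.2))).symm
    rw [← mul_assoc, hzc.symm.mul_pow] at hs2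
    have hrinv : r⁻¹ = r := inv_eq_of_mul_eq_one_right (by rw [← pow_two]; exact hr2)
    have hyinv : (y : Ω)⁻¹ = y := inv_eq_of_mul_eq_one_right
      (by rw [← pow_two]; exact congrArg Subtype.val t.y_sq)
    have hsq : (r * y) ^ 2 = ⁅r, (y : Ω)⁆ := by
      rw [commutatorElement_def, hrinv, hyinv, pow_two]; group
    rw [hsq] at hs2
    have hcm : ⁅r, (y : Ω)⁆ = c := by
      obtain ⟨m, hm⟩ := hcomm r hr y (h.le y.2)
      rcases zpow_two_cases (show (c : Ω) ^ 2 = 1 from congrArg Subtype.val hcp) m with e3 | e3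
      · exfalso
        exact t.y_not (h.mem_centre_of_comm hr hrE y.2
          (commutatorElement_eq_one_iff_mul_comm.1 (hm.symm.trans e3)))
      · exact hm.symm.trans e3
    rw [hcm] at hs2
    obtain ⟨k₀, ⟨hku, hkv⟩, a, b, hab⟩ := t.pair.exists_decomp (⟨z, h.centre_le hz⟩ : E)
    have hb : y ^ b = 1 := by
      rcases zpow_two_cases t.y_sq b with e3 | e3
      · exact e3
      · exfalso
        rw [e3] at hab
        apply t.y_not
        have hk₀ : (k₀ : Ω) ∈ centre S := h.mem_centre_of_comm hg t.not_mem k₀.2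
          (mul_inv_eq_iff_eq_mul.1 (congrArg Subtype.val hku))
        have e4 : (y : Ω) = ((k₀ : Ω) * (c : Ω) ^ a)⁻¹ * z := by
          have h5 := congrArg Subtype.val hab
          simp only [Subgroup.coe_mul, Subgroup.coe_zpow] at h5
          rw [h5]; group
        rw [e4]
        exact mul_mem (inv_mem (mul_mem hk₀ (zpow_mem hcc a))) hz
    rw [hb, mul_one] at hab
    have hz2 : c * (⟨z, h.centre_le hz⟩ : E) ^ 2 = 1 := Subtype.ext hs2
    have hca : (c ^ a) ^ 2 = 1 := by rw [← zpow_natCast, zpow_comm, zpow_natCast, hcp, one_zpow]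
    rw [hab, (show Commute k₀ (c ^ a) from t.pair.comm _ _).mul_pow, hca, mul_one] at hz2
    have hk2 : k₀ ^ 2 = c := by
      rw [eq_inv_of_mul_eq_one_right hz2, inv_eq_of_mul_eq_one_right (by rw [← pow_two]; exact hcp)]
    have hv : v c = c := by rw [← hk2, map_pow, hkv]
    rw [t.v_c] at hv
    exact t.y_not (by
      rw [show y = 1 from mul_left_cancel (a := c) (by rw [mul_one]; exact hv)]
      exact one_mem _)
  refine ⟨hno, ?_⟩
  let N : Subgroup (MulAut S) :=
    { carrier := {γ | ∀ k : S, (k : Ω) ∈ E ↔ ((γ k : S) : Ω) ∈ E}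
      one_mem' := fun k => Iff.rfl
      mul_mem' := fun {a b} ha hb k => (hb k).trans (ha (b k))
      inv_mem' := fun {a} ha k => by
        have := ha (a⁻¹ k)
        rw [MulAut.inv_def, MulEquiv.apply_symm_apply] at this
        exact this.symm }
  have hN : ∀ γ : MulAut S, (((γ ⟨y, h.le y.2⟩ : S) : Ω) ∈ E) → γ ∈ N := by
    intro γ hγy
    have hle : ∀ k : S, (k : Ω) ∈ E → ((γ k : S) : Ω) ∈ E := by
      intro k hk
      obtain ⟨j, z, hz, hkj⟩ := h.gen' y y.2 t.y_not k hk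
      have e : k = (⟨y, h.le y.2⟩ : S) ^ j * ⟨z, (mem_centre.1 hz).1⟩ := Subtype.ext hkj
      rw [e, map_mul, map_zpow, Subgroup.coe_mul, Subgroup.coe_zpow]
      exact mul_mem (zpow_mem hγy j) (h.centre_le (aut_mem_centre γ hz))
    have heq : (E.subgroupOf S).map γ.toMonoidHom = E.subgroupOf S :=
      Subgroup.eq_of_le_of_card_ge (by rintro _ ⟨k, hk, rfl⟩; exact hle k hk)
        (Subgroup.card_map_of_injective γ.injective).ge
    intro k
    refine ⟨hle k, fun hk => ?_⟩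
    obtain ⟨w, hw, hwk⟩ := heq.ge (show γ k ∈ E.subgroupOf S from hk)
    exact γ.injective hwk ▸ hw
  intro γ hγ k hk
  suffices hγN : γ ∈ N from (hγN k).1 hk
  obtain ⟨n, m, hm, hnm⟩ :=
    Nat.exists_eq_pow_mul_and_not_dvd (orderOf_pos γ).ne' 2 (by norm_num)
  have hp1 : γ ^ m ∈ N := by
    have hX : IsPGroup 2 (Subgroup.zpowers (γ ^ m)) := by
      rintro ⟨_, i, rfl⟩
      refine ⟨n, Subtype.ext ?_⟩
      show ((γ ^ m) ^ i) ^ (2 ^ n) = 1
      rw [← zpow_natCast, zpow_comm, zpow_natCast, ← pow_mul, mul_comm, ← hnm, pow_orderOf_eq_one,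
        one_zpow]
    obtain ⟨b, -, hb⟩ := exists_conj_into_autS
      (fullyNormalized_props hS hF (isFullyNormalized_top F)).1
      (Subgroup.zpowers_le.2 (pow_mem hγ m)) hX
    obtain ⟨s, hs, hse⟩ := mem_autInducedBy_iff.1 (hb _ (Subgroup.mem_zpowers _))
    apply hN
    obtain ⟨s', hs'⟩ := b.surjective ⟨s, hs⟩
    have e : (b * γ ^ m * b⁻¹) (b ⟨y, h.le y.2⟩) = b (s' * ⟨y, h.le y.2⟩ * s'⁻¹) := by
      apply Subtype.ext
      rw [hse, map_mul, map_mul, map_inv, hs']
      rfl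
    rw [MulAut.mul_apply, MulAut.mul_apply, MulAut.inv_def, MulEquiv.symm_apply_apply] at e
    rw [b.injective e]
    exact (Subgroup.mem_normalizer_iff.1 (h.norm s' s'.2) _).1 y.2
  have hp2 : γ ^ (2 ^ n) ∈ N := by
    set δ := γ ^ (2 ^ n) with hδ
    have hδm : δ ^ m = 1 := by rw [hδ, ← pow_mul, ← hnm, pow_orderOf_eq_one]
    obtain ⟨r, hr⟩ : ∃ r, m = 2 * r + 1 := Nat.odd_iff.2 (by omega)
    have hδ2 : δ = (δ ^ 2) ^ (r + 1) := by
      rw [← pow_mul, show 2 * (r + 1) = m + 1 by omega, pow_succ, hδm, one_mul]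
    apply hN
    by_contra hE1
    have hsq : ∀ (γ : MulAut S), ((γ ⟨y, h.le y.2⟩ : S) : Ω) ^ 2 = 1 := fun γ => by
      rw [← Subgroup.coe_pow, ← map_pow,
        show (⟨y, h.le y.2⟩ : S) ^ 2 = 1 from
          Subtype.ext (by simpa using congrArg Subtype.val t.y_sq), map_one]
      rfl
    by_cases hE2 : ((δ (δ ⟨y, h.le y.2⟩) : S) : Ω) ∈ E
    · have h2 : δ ^ 2 ∈ N := hN _ (by rw [pow_two]; exact hE2)
      have h3 : δ ∈ N := hδ2 ▸ pow_mem h2 _
      exact hE1 ((h3 _).1 y.2)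
    · have h3 := hno _ (δ ⟨y, h.le y.2⟩).2 _ (δ (δ ⟨y, h.le y.2⟩)).2 hE1 hE2 (hsq δ)
        (by simpa [MulAut.mul_apply] using hsq (δ * δ))
      have h4 := aut_mem_centre δ⁻¹ h3
      rw [show (⟨((δ ⟨y, h.le y.2⟩ : S) : Ω)⁻¹ * ((δ (δ ⟨y, h.le y.2⟩) : S) : Ω), (mem_centre.1 h3).1⟩ : S)
        = δ ((⟨y, h.le y.2⟩ : S)⁻¹ * δ ⟨y, h.le y.2⟩) by rw [map_mul, map_inv]; rfl, MulAut.inv_def,
        MulEquiv.symm_apply_apply] at h4
      refine hE1 ?_
      have h5 := E.mul_mem y.2 (h.centre_le h4)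
      simpa using h5
  obtain ⟨a, b, hab⟩ : IsCoprime (m : ℤ) ((2 ^ n : ℕ) : ℤ) := by
    rw [Int.isCoprime_iff_nat_coprime, Int.natAbs_natCast, Int.natAbs_natCast]
    exact ((Nat.prime_two.coprime_iff_not_dvd.2 hm).symm).pow_right n
  have e : γ = (γ ^ m) ^ a * (γ ^ (2 ^ n)) ^ b := by
    rw [← zpow_natCast, ← zpow_mul, ← zpow_natCast γ (2 ^ n), ← zpow_mul, ← zpow_add,
      mul_comm (m : ℤ), mul_comm (((2 ^ n : ℕ)) : ℤ), hab, zpow_one]
  rw [e]
  exact mul_mem (zpow_mem hp1 a) (zpow_mem hp2 b)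

theorem fixSub_invariant {E : Subgroup Ω} (h : Maximal S F 2 E)
    (hst : ∀ γ ∈ F.autGroup S, ∀ k : S, (k : Ω) ∈ E → ((γ k : S) : Ω) ∈ E)
    {γ : MulAut S} (hγ : γ ∈ F.autGroup S) :
    ∃ ρ ∈ F.autGroup E, ∀ k : E, ((ρ k : E) : Ω) = ((γ ⟨k, h.le k.2⟩ : S) : Ω) := by
  have := finite_of_le h.le
  let φ : E →* Ω := (S.subtype.comp γ.toMonoidHom).comp (Subgroup.inclusion h.le)
  have hφ : φ ∈ F.Hom E := restrict_mem F ((mem_autGroup_iff F le_rfl).1 hγ) h.le
  have hr : φ.range = E := Subgroup.eq_of_le_of_card_ge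
    (by rintro _ ⟨k, rfl⟩; exact hst γ hγ _ k.2) (isConj_card ⟨φ, hφ, rfl⟩).le
  exact ⟨isoOf hφ hr, isoOf_mem_autGroup hφ hr, fun k => rfl⟩

/-- The common subgroup of fixed points, for `p = 2`. -/
theorem exists_common_two (hS : IsPGroup 2 S) (hF : F.IsSaturated 2)
    (hmax : ∀ R, IsAlperinSubgroup F 2 R → R ≠ S → Maximal S F 2 R)
    {E : Subgroup Ω} (hE : Maximal S F 2 E) {c : Ω} (hcc : c ∈ centre S) (hc1 : c ≠ 1) (hcp : c ^ 2 = 1)
    (hcomm : ∀ g ∈ S, ∀ x ∈ S, ⁅g, x⁆ ∈ Subgroup.zpowers c) (hhyp : F.hyperfocalSubgroup 2 = S) :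
    ∃ K : Subgroup Ω, K ≤ centre S ∧ (∀ R, IsAlperinSubgroup F 2 R → ∀ α ∈ F.autGroup R,
        ∀ x : R, (x : Ω) ∈ K → ((α x : R) : Ω) ∈ K) ∧
      ∀ z ∈ centre S, ∃ k ∈ K, ∃ i : ℤ, z = k * c ^ i := by
  have hcS : c ∈ S := (mem_centre.1 hcc).1
  have htri : ∀ (R : Subgroup Ω) (h : Maximal S F 2 R), ∃ (g : Ω) (hg : g ∈ S) (v : MulAut R) (y : R),
      Triangle F h ⟨c, h.centre_le hcc⟩ g hg v y := fun R h =>
    exists_triangle hS hF h (c := ⟨c, h.centre_le hcc⟩) hcc (fun e => hc1 (congrArg Subtype.val e))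
      (Subtype.ext hcp) hcomm
  have hstab : ∀ (R : Subgroup Ω) (h : Maximal S F 2 R),
      (∀ r ∈ S, ∀ s ∈ S, r ∉ R → s ∉ R → r ^ 2 = 1 → s ^ 2 = 1 → r⁻¹ * s ∈ centre S) ∧
      ∀ γ ∈ F.autGroup S, ∀ k : S, (k : Ω) ∈ R → ((γ k : S) : Ω) ∈ R := fun R h => by
    obtain ⟨g, hg, v, y, t⟩ := htri R h
    exact autGroup_stabilizes hS hF h t hcc (fun e => hc1 (congrArg Subtype.val e)) (Subtype.ext hcp) hcomm
  have hdec : ∀ (R : Subgroup Ω) (_ : Maximal S F 2 R), ∀ z ∈ centre S,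
      ∃ k ∈ fixSub F R, ∃ i : ℤ, z = k * c ^ i := by
    intro R h z hz
    obtain ⟨g, hg, v, y, t⟩ := htri R h
    obtain ⟨k₀, hk₀, i, j, hij⟩ := t.pair.exists_decomp ⟨z, h.centre_le hz⟩
    have hk₀K := t.mem_fixSub_iff.2 hk₀
    refine ⟨k₀, hk₀K, i, ?_⟩
    have hj : y ^ j = 1 := by
      rcases zpow_two_cases t.y_sq j with e | e
      · exact e
      · exfalso
        rw [e] at hij
        apply t.y_not
        have e4 : (y : Ω) = ((k₀ : Ω) * c ^ i)⁻¹ * z := by
          have h5 := congrArg Subtype.val hij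
          simp only [Subgroup.coe_mul, Subgroup.coe_zpow] at h5
          rw [h5]; group
        rw [e4]
        exact mul_mem (inv_mem (mul_mem (fixSub_le_centre h hk₀K) (zpow_mem hcc i))) hz
    rw [hj, mul_one] at hij
    exact congrArg Subtype.val hij
  have hcnot : ∀ (R : Subgroup Ω) (_ : Maximal S F 2 R), c ∉ fixSub F R := by
    intro R h hc
    obtain ⟨g, hg, v, y, t⟩ := htri R h
    have := (t.mem_fixSub_iff (k := ⟨c, h.centre_le hcc⟩)).1 hc
    rw [t.v_c] at this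
    exact t.y_not (by
      rw [show y = 1 from mul_left_cancel (a := (⟨c, h.centre_le hcc⟩ : R)) (by rw [mul_one]; exact this.2)]
      exact one_mem _)
  have heq : ∀ {R R' : Subgroup Ω}, Maximal S F 2 R → Maximal S F 2 R' → ∀ r, r ∈ R → r ∈ R' →
      r ∉ centre S → R = R' := by
    intro R R' h h' r hr hr' hrc
    refine le_antisymm (fun k hk => ?_) fun k hk => ?_
    · obtain ⟨i, z, hz, rfl⟩ := h.gen' r hr hrc k hk
      exact mul_mem (zpow_mem hr' i) (h'.centre_le hz)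
    · obtain ⟨i, z, hz, rfl⟩ := h'.gen' r hr' hrc k hk
      exact mul_mem (zpow_mem hr i) (h.centre_le hz)
  have hcfix : ∀ γ ∈ F.autGroup S, γ ⟨c, hcS⟩ = ⟨c, hcS⟩ := by
    intro γ _
    obtain ⟨g, hg, hgE⟩ := hE.exists_not_mem
    obtain ⟨r, hr, hrc⟩ := hE.not_centre
    obtain ⟨m, hm⟩ := hcomm g hg r (hE.le hr)
    have hgen : c ∈ Subgroup.zpowers ⁅g, r⁆ := by
      rcases zpow_two_cases hcp m with e | e
      · exact absurd (hE.mem_centre_of_comm hg hgE hr
          (commutatorElement_eq_one_iff_mul_comm.1 (hm.symm.trans e))) hrc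
      · rw [hm.symm.trans e]; exact Subgroup.mem_zpowers c
    obtain ⟨l, hl⟩ := aut_mem_zpowers hcS hcomm hg (hE.le hr) hgen γ
    rcases zpow_two_cases hcp l with e | e
    · exfalso
      have h2 : γ ⟨c, hcS⟩ = 1 := Subtype.ext (hl.trans e)
      rw [← map_one γ] at h2
      exact hc1 (congrArg Subtype.val (γ.injective h2))
    · exact Subtype.ext (hl.trans e)
  have hinvγ : ∀ (R : Subgroup Ω) (h : Maximal S F 2 R), ∀ γ ∈ F.autGroup S, ∀ k : S,
      (k : Ω) ∈ fixSub F R → ((γ k : S) : Ω) ∈ fixSub F R := by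
    intro R h γ hγ k hk
    obtain ⟨ρ, hρ, hρe⟩ := fixSub_invariant h (hstab R h).2 hγ
    have h2 := apply_mem_fixSub hρ (k := (⟨k, fixSub_le hk⟩ : R)) hk
    rw [hρe] at h2
    exact h2
  -- if all these subgroups agree, we are done
  suffices hcommon : ∀ (R : Subgroup Ω), Maximal S F 2 R → fixSub F R = fixSub F E by
    refine ⟨fixSub F E, fixSub_le_centre hE, fun R hR α hα x hx => ?_, hdec E hE⟩
    by_cases hRS : R = S
    · subst hRS
      exact hinvγ E hE α hα x hx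
    · have h := hmax R hR hRS
      rw [← hcommon R h] at hx ⊢
      exact apply_mem_fixSub hα hx
  intro R hR
  by_contra hne
  obtain ⟨g, hg, v, y, t⟩ := htri E hE
  obtain ⟨g', hg', v', y', t'⟩ := htri R hR
  have hy'E : (y' : Ω) ∉ E := fun hy => hne (by rw [heq hR hE y' y'.2 hy t'.y_not])
  have honly : ∀ R' (h : Maximal S F 2 R'), R' = E ∨ R' = R := by
    intro R' h
    obtain ⟨g'', hg'', v'', y'', t''⟩ := htri R' h
    by_cases hy'' : (y'' : Ω) ∈ E
    · exact Or.inl (heq h hE y'' y''.2 hy'' t''.y_not)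
    · right
      have h3 := (hstab E hE).1 y' (hR.le y'.2) y'' (h.le y''.2) hy'E hy''
        (congrArg Subtype.val t'.y_sq) (congrArg Subtype.val t''.y_sq)
      refine heq h hR y'' y''.2 ?_ t''.y_not
      have h4 := R.mul_mem y'.2 (hR.centre_le h3)
      simpa using h4
  let D₀ : Subgroup Ω := Subgroup.closure {d | ∃ γ ∈ F.autGroup S, ∃ k : S,
    k ∈ Subgroup.center S ∧ d = (k : Ω)⁻¹ * ((γ k : S) : Ω)}
  let T : Subgroup Ω := Subgroup.closure ({(y' : Ω), (y : Ω)} : Set Ω)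
  have hD₀c : D₀ ≤ centre S := by
    refine (Subgroup.closure_le _).2 ?_
    rintro _ ⟨γ, hγ, k, hk, rfl⟩
    exact mul_mem (inv_mem ⟨k, hk, rfl⟩) (aut_mem_centre γ (z := (k : Ω)) ⟨k, hk, rfl⟩)
  have hshift : (y' : Ω) * y * (y' : Ω)⁻¹ = y * c := by
    obtain ⟨m, hm⟩ := hcomm y' (hR.le y'.2) y (hE.le y.2)
    change c ^ m = ⁅(y' : Ω), (y : Ω)⁆ at hm
    rcases zpow_two_cases hcp m with e | e
    · exact absurd (hE.mem_centre_of_comm (hR.le y'.2) hy'E y.2
        (commutatorElement_eq_one_iff_mul_comm.1 (hm.symm.trans e))) t.y_not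
    · rw [← (mem_centre.1 hcc).2 y (hE.le y.2) |> fun e2 => (show (y : Ω) * c = c * y from e2).symm]
      rw [show c * (y : Ω) = c ^ m * y by rw [e], hm, commutatorElement_def]
      group
  have hrel : CfsgLib.GenExtraspecial.Rel 2 (y' : Ω) (y : Ω) c :=
    { xp := congrArg Subtype.val t'.y_sq
      yp := congrArg Subtype.val t.y_sq
      zp := hcp
      z1 := hc1
      xz := (mem_centre.1 hcc).2 y' (hR.le y'.2)
      yz := (mem_centre.1 hcc).2 y (hE.le y.2)
      conj := hshift }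
  have hTS : T ≤ S := (Subgroup.closure_le _).2 (by
    rintro r (rfl | rfl)
    · exact hR.le y'.2
    · exact hE.le y.2)
  have hcT : c ∈ T := hrel.z_mem
  have hyT : (y : Ω) ∈ T := Subgroup.subset_closure (by simp)
  have hy'T : (y' : Ω) ∈ T := Subgroup.subset_closure (by simp)
  have hDS : T ⊔ D₀ ≤ S := sup_le hTS fun d hd => (mem_centre.1 (hD₀c hd)).1
  have hcD : ∀ n : ℤ, c ^ n ∈ T ⊔ D₀ := fun n => Subgroup.mem_sup_left (zpow_mem hcT n)
  have hDconj : ∀ x ∈ S, ∀ d ∈ T ⊔ D₀, x * d * x⁻¹ ∈ T ⊔ D₀ := by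
    intro x hx d hd
    obtain ⟨n, hn⟩ := hcomm x hx d (hDS hd)
    have e : x * d * x⁻¹ = c ^ n * d := by
      rw [show c ^ n = ⁅x, d⁆ from hn, commutatorElement_def]; group
    rw [e]
    exact mul_mem (hcD n) hd
  -- every automorphism of an Alperin subgroup moves elements inside `T ⊔ D₀`
  have hmove : ∀ R', IsAlperinSubgroup F 2 R' → ∀ α ∈ F.autGroup R', ∀ x : R',
      (x : Ω)⁻¹ * ((α x : R') : Ω) ∈ T ⊔ D₀ := by
    have hgood : ∀ {P : Subgroup Ω}, P ≤ S → ∀ (α : MulAut P) (s : Set P),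
        (∀ x ∈ s, (x : Ω)⁻¹ * ((α x : P) : Ω) ∈ T ⊔ D₀) → ∀ x ∈ Subgroup.closure s,
        (x : Ω)⁻¹ * ((α x : P) : Ω) ∈ T ⊔ D₀ := by
      intro P hP α s hs x hx
      induction hx using Subgroup.closure_induction with
      | mem x hx => exact hs x hx
      | one => simp
      | mul a b _ _ ha hb =>
        rw [map_mul, Subgroup.coe_mul, Subgroup.coe_mul]
        have e : ((a : Ω) * b)⁻¹ * (((α a : P) : Ω) * ((α b : P) : Ω)) =
            ((b : Ω)⁻¹ * ((a : Ω)⁻¹ * ((α a : P) : Ω)) * (b : Ω)⁻¹⁻¹) * ((b : Ω)⁻¹ * ((α b : P) : Ω)) := by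
          group
        rw [e]
        exact mul_mem (hDconj _ (S.inv_mem (hP b.2)) _ ha) hb
      | inv a _ ha =>
        rw [map_inv, Subgroup.coe_inv, Subgroup.coe_inv]
        have e : ((a : Ω))⁻¹⁻¹ * ((α a : P) : Ω)⁻¹ =
            (a : Ω) * ((a : Ω)⁻¹ * ((α a : P) : Ω))⁻¹ * (a : Ω)⁻¹ := by group
        rw [e]
        exact hDconj _ (hP a.2) _ (inv_mem ha)
    have hpair : ∀ R' (h : Maximal S F 2 R') (g'' : Ω) (hg'' : g'' ∈ S) (v'' : MulAut R') (y'' : R'),
        Triangle F h ⟨c, h.centre_le hcc⟩ g'' hg'' v'' y'' → (y'' : Ω) ∈ T →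
        ∀ α ∈ F.autGroup R', ∀ x : R', (x : Ω)⁻¹ * ((α x : R') : Ω) ∈ T ⊔ D₀ := by
      intro R' h g'' hg'' v'' y'' t'' hy''T α hα x
      set cc : R' := ⟨c, h.centre_le hcc⟩ with hcc'
      set u := conjAut (h.norm g'' hg'') with hu
      have hval : ∀ b ∈ F.autGroup R', ((b cc : R') : Ω) ∈ T := by
        intro b hb
        rcases (t''.cls b hb).1 with e | e | e <;> rw [e]
        · exact hcT
        · exact hy''T
        · exact mul_mem hcT hy''T
      have hk₀ : ∀ k₀ : R', u k₀ = k₀ ∧ v'' k₀ = k₀ → (k₀ : Ω)⁻¹ * ((α k₀ : R') : Ω) ∈ T ⊔ D₀ := by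
        intro k₀ hk₀
        have hk₀K := t''.mem_fixSub_iff.2 hk₀
        -- a multiple commuting with `u`
        obtain ⟨ξ, hξF, hξfix, hξ⟩ : ∃ ξ : MulAut R', ξ ∈ F.autGroup R' ∧
            (∀ k : R', u k = k → v'' k = k → ξ k = k) ∧ ξ * (α * u * α⁻¹) * ξ⁻¹ = u := by
          have huF : u ∈ F.autGroup R' := autInducedBy_le_autGroup F h.le (conjAut_mem_autInducedBy _ hg'')
          have hvinv : v''⁻¹ = v'' := inv_eq_of_mul_eq_one_right t''.v_sq
          have huinv : u⁻¹ = u := inv_eq_of_mul_eq_one_right t''.u_sq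
          have huvu : u * v'' * u = v'' * u * v'' := t''.conj_uvu
          rcases (t''.cls α hα).2 with e | e | e <;> rw [← hu] at e
          · exact ⟨1, one_mem _, fun k _ _ => rfl, by rw [e]; simp⟩
          · refine ⟨v'' * u, mul_mem t''.v_mem huF, fun k h1 h2 => by rw [MulAut.mul_apply, h1, h2], ?_⟩
            rw [e, mul_inv_rev, hvinv, huinv]
            calc v'' * u * v'' * (u * v'') = (v'' * u * v'') * u * v'' := by group
              _ = u * v'' * (u * u) * v'' := by rw [← huvu]; group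
              _ = u := by rw [t''.u_sq, mul_one, mul_assoc, t''.v_sq, mul_one]
          · refine ⟨v'', t''.v_mem, fun k _ h2 => h2, ?_⟩
            rw [e, hvinv]
            calc v'' * (v'' * u * v'') * v'' = (v'' * v'') * u * (v'' * v'') := by group
              _ = u := by rw [t''.v_sq, one_mul, mul_one]
        have hcomm' : ξ * α * u = u * (ξ * α) := by
          calc ξ * α * u = (ξ * (α * u * α⁻¹) * ξ⁻¹) * (ξ * α) := by group
            _ = _ := by rw [hξ]
        obtain ⟨γ, hγ, hγe⟩ := extends_to_top hS hF h hg'' t''.not_mem (mul_mem hξF hα) hcomm'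
        have h1 := hinvγ R' h γ hγ ⟨k₀, h.le k₀.2⟩ hk₀K
        rw [hγe k₀ k₀.2] at h1
        have h2 := t''.mem_fixSub_iff.1 h1
        have h3 : (ξ * α) k₀ = α k₀ := by
          apply ξ.injective
          exact hξfix _ h2.1 h2.2
        refine Subgroup.mem_sup_right (Subgroup.subset_closure ⟨γ, hγ, ⟨k₀, h.le k₀.2⟩, ?_, ?_⟩)
        · obtain ⟨w, hw, e⟩ := fixSub_le_centre h hk₀K
          exact (Subtype.ext e : w = ⟨(k₀ : Ω), h.le k₀.2⟩) ▸ hw
        · rw [← h3, hγe k₀ k₀.2]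
      obtain ⟨k₀, hk₀', i, j, rfl⟩ := t''.pair.exists_decomp x
      refine hgood h.le α {k₀, cc, y''} ?_ _ (mul_mem (mul_mem (Subgroup.subset_closure (by simp))
        (zpow_mem (Subgroup.subset_closure (by simp)) i)) (zpow_mem (Subgroup.subset_closure (by simp)) j))
      rintro w (rfl | rfl | rfl)
      · exact hk₀ _ hk₀'
      · exact mul_mem (inv_mem (Subgroup.mem_sup_left hcT)) (Subgroup.mem_sup_left (hval α hα))
      · obtain ⟨a, ha, hya⟩ := t''.exists_y
        refine mul_mem (inv_mem (Subgroup.mem_sup_left hy''T)) (Subgroup.mem_sup_left ?_)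
        rw [hya, ← MulAut.mul_apply]
        exact hval _ (mul_mem hα ha)
    intro R' hR' α hα x
    by_cases hRS : R' = S
    · subst hRS
      have hgenS : x ∈ Subgroup.closure ({w : R' | (w : Ω) ∈ centre R' ∨ (w : Ω) = y ∨ (w : Ω) = y'}) := by
        obtain ⟨i, k, hk, hxk⟩ := hE.gen y' (hR.le y'.2) hy'E x x.2
        obtain ⟨j, z, hz, hkj⟩ := hE.gen' y y.2 t.y_not k hk
        have e : x = (⟨y', hR.le y'.2⟩ : R') ^ i * ((⟨y, hE.le y.2⟩ : R') ^ j * ⟨z, (mem_centre.1 hz).1⟩) := by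
          apply Subtype.ext
          rw [hxk, hkj]
          rfl
        let G0 : Set R' := {w : R' | (w : Ω) ∈ centre R' ∨ (w : Ω) = y ∨ (w : Ω) = y'}
        have h1 : (⟨y', hR.le y'.2⟩ : R') ∈ Subgroup.closure G0 :=
          Subgroup.subset_closure (Or.inr (Or.inr rfl))
        have h2 : (⟨y, hE.le y.2⟩ : R') ∈ Subgroup.closure G0 :=
          Subgroup.subset_closure (Or.inr (Or.inl rfl))
        have h3 : (⟨z, (mem_centre.1 hz).1⟩ : R') ∈ Subgroup.closure G0 :=
          Subgroup.subset_closure (Or.inl hz)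
        rw [e]
        exact mul_mem (zpow_mem h1 i) (mul_mem (zpow_mem h2 j) h3)
      refine hgood le_rfl α _ ?_ x hgenS
      intro w hw
      rcases hw with hw | hw | hw
      · refine Subgroup.mem_sup_right (Subgroup.subset_closure ⟨α, hα, w, ?_, rfl⟩)
        obtain ⟨w', hw', e⟩ := hw
        exact (Subtype.ext e : w' = w) ▸ hw'
      all_goals
        first
          | (obtain ⟨ρ, hρ, hρe⟩ := fixSub_invariant hE (hstab E hE).2 hα
             have e : (w : Ω)⁻¹ * ((α w : R') : Ω) = (y : Ω)⁻¹ * ((ρ y : E) : Ω) := by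
               rw [hρe, hw, show (⟨(y : Ω), hE.le y.2⟩ : R') = w from Subtype.ext hw.symm]
             rw [e]
             exact hpair E hE g hg v y t hyT ρ hρ y)
          | (obtain ⟨ρ, hρ, hρe⟩ := fixSub_invariant hR (hstab R hR).2 hα
             have e : (w : Ω)⁻¹ * ((α w : R') : Ω) = (y' : Ω)⁻¹ * ((ρ y' : R) : Ω) := by
               rw [hρe, hw, show (⟨(y' : Ω), hR.le y'.2⟩ : R') = w from Subtype.ext hw.symm]
             rw [e]
             exact hpair R hR g' hg' v' y' t' hy'T ρ hρ y')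
    · rcases honly R' (hmax R' hR' hRS) with rfl | rfl
      · exact hpair R' hE g hg v y t hyT α hα x
      · exact hpair R' hR g' hg' v' y' t' hy'T α hα x
  have hall : ∀ {P : Subgroup Ω} {φ : P →* Ω}, φ ∈ F.Hom P → ∀ x : P, (x : Ω)⁻¹ * φ x ∈ T ⊔ D₀ := by
    intro P φ hφ
    refine hom_induction hS hF (C := fun P φ => ∀ x : P, (x : Ω)⁻¹ * φ x ∈ T ⊔ D₀) ?_ ?_ ?_ ?_ hφ
    · exact fun R' hR' α hα x => hmove R' hR' α hα x
    · exact fun hPQ _ _ h x => h (Subgroup.inclusion hPQ x)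
    · intro P Q φ ψ _ _ h h1 h2 x
      show (x : Ω)⁻¹ * ψ ⟨φ x, h x⟩ ∈ T ⊔ D₀
      rw [show (x : Ω)⁻¹ * ψ ⟨φ x, h x⟩ = ((x : Ω)⁻¹ * φ x) * ((φ x)⁻¹ * ψ ⟨φ x, h x⟩) by group]
      exact mul_mem (h1 x) (h2 ⟨φ x, h x⟩)
    · intro P Q φ ψ _ _ hr hinv h w
      obtain ⟨x, hx⟩ : (w : Ω) ∈ φ.range := hr.symm ▸ w.2
      have e : ψ w = (x : Ω) := by
        rw [show w = ⟨φ x, hx.symm ▸ w.2⟩ from Subtype.ext hx.symm]
        exact hinv x _
      rw [e, ← hx, show (φ x)⁻¹ * (x : Ω) = ((x : Ω)⁻¹ * φ x)⁻¹ by group]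
      exact inv_mem (h x)
  have hSD : S ≤ T ⊔ D₀ := by
    refine hhyp ▸ (Subgroup.closure_le _).2 ?_
    rintro _ ⟨P, α, x, hP, -, rfl⟩
    exact hall ((mem_autGroup_iff F hP).1 α.2) x
  -- `D₀` lies in both fixed subgroups and the centre is `⟨c⟩ D₀`
  have hD₀K : ∀ R' (_ : Maximal S F 2 R'), D₀ ≤ fixSub F R' := by
    intro R' h
    refine (Subgroup.closure_le _).2 ?_
    rintro _ ⟨γ, hγ, k, hk, rfl⟩
    obtain ⟨k₀, hk₀, i, hki⟩ := hdec R' h k ⟨k, hk, rfl⟩
    have hk₀S : k₀ ∈ S := h.le (fixSub_le hk₀)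
    have e : k = (⟨k₀, hk₀S⟩ : S) * (⟨c, hcS⟩ : S) ^ i := Subtype.ext hki
    rw [e, map_mul, map_zpow, hcfix γ hγ, Subgroup.coe_mul, Subgroup.coe_mul, Subgroup.coe_zpow]
    have hcc2 : Commute ((k₀⁻¹ * ((γ ⟨k₀, hk₀S⟩ : S) : Ω))) (c ^ i) :=
      Commute.zpow_right ((mem_centre.1 hcc).2 _ (S.mul_mem (S.inv_mem hk₀S) (Subtype.prop _))) i
    show ((k₀ * c ^ i))⁻¹ * (((γ ⟨k₀, hk₀S⟩ : S) : Ω) * c ^ i) ∈ fixSub F R'
    rw [show (k₀ * c ^ i)⁻¹ * (((γ ⟨k₀, hk₀S⟩ : S) : Ω) * c ^ i) =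
      (c ^ i)⁻¹ * ((k₀⁻¹ * ((γ ⟨k₀, hk₀S⟩ : S) : Ω)) * c ^ i) by group, hcc2.eq, inv_mul_cancel_left]
    exact mul_mem (inv_mem hk₀) (hinvγ R' h γ hγ ⟨k₀, hk₀S⟩ hk₀)
  have hcentre : ∀ z ∈ centre S, ∃ n : ℤ, ∃ d ∈ D₀, z = c ^ n * d := by
    intro z hz
    have hnorm : D₀ ≤ Subgroup.normalizer (T : Set Ω) := by
      intro d hd
      refine Subgroup.mem_normalizer_iff.2 fun r => ?_
      have hd' := mem_centre.1 (hD₀c hd)
      constructor
      · intro hr
        rw [← hd'.2 r (hTS hr), mul_inv_cancel_right]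
        exact hr
      · intro hr
        have h2 := hd'.2 _ (hTS hr)
        have e : r = d⁻¹ * (d * r * d⁻¹) * d := by group
        rw [e, mul_assoc, h2, inv_mul_cancel_left]
        exact hr
    have hz' : z ∈ ((T ⊔ D₀ : Subgroup Ω) : Set Ω) := hSD (mem_centre.1 hz).1
    rw [Subgroup.coe_mul_of_right_le_normalizer_left _ _ hnorm] at hz'
    obtain ⟨r, hr, d, hd, hrd⟩ := Set.mem_mul.1 hz'
    have hrc : r ∈ centre S := by
      rw [show r = z * d⁻¹ by rw [← hrd]; group]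
      exact mul_mem hz (inv_mem (hD₀c hd))
    obtain ⟨j, i, n, rfl⟩ := hrel.exists_form hr
    have hi := hrel.x_of_comm (((mem_centre.1 hrc).2 y (hE.le y.2)).symm)
    have hj := hrel.y_of_comm (((mem_centre.1 hrc).2 y' (hR.le y'.2)).symm)
    rw [hrel.form_z hi hj] at hrd
    exact ⟨n, d, hd, hrd.symm⟩
  have hle : ∀ R₁ R₂, Maximal S F 2 R₁ → Maximal S F 2 R₂ → fixSub F R₁ ≤ fixSub F R₂ := by
    intro R₁ R₂ h₁ h₂ k hk
    obtain ⟨n, d, hd, rfl⟩ := hcentre k (fixSub_le_centre h₁ hk)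
    rcases zpow_two_cases hcp n with e | e
    · rw [e, one_mul]
      exact hD₀K R₂ h₂ hd
    · exfalso
      rw [e] at hk
      refine hcnot R₁ h₁ ?_
      simpa using mul_mem hk (inv_mem (hD₀K R₁ h₁ hd))
  exact hne (le_antisymm (hle R E hR hE) (hle E R hE hR))

end CfsgLib.CenterIndexSq
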